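import Mathlib.Algebra.BigOperators.Fin
import Mathlib.Algebra.BigOperators.Ring.Finset
import Mathlib.Algebra.Order.BigOperators.Group.Finset
import Mathlib.Data.Fintype.Pigeonhole
import Mathlib.Tactic

/-!
# Five integer vectors of norm 3 with mutual inner product 2

Their supports have two common positions (a sunflower), and a further vector of norm 33 with inner
product 8 with each of them has one of three shapes on these positions.
-/

set_option autoImplicit false
set_option linter.unusedSectionVars false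

namespace Cfsg.Agent.Lib.U34Type98.Vectors

variable {ι : Type*} [DecidableEq ι] (s : Finset ι) (b : Fin 5 → ι → ℤ)

/-- The support of `b i` inside `s`. -/
def supp (i : Fin 5) : Finset ι := s.filter fun χ => b i χ ≠ 0

variable {s b}

theorem sq_one (hb : ∀ i j, ∑ χ ∈ s, b i χ * b j χ = if i = j then 3 else 2) (i : Fin 5) {χ : ι}
    (hχ : χ ∈ supp s b i) : b i χ = 1 ∨ b i χ = -1 := by
  obtain ⟨hχs, hne⟩ := Finset.mem_filter.1 hχ
  have h3 : ∑ χ ∈ s, b i χ * b i χ = 3 := by rw [hb, if_pos rfl]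
  have h1 : b i χ * b i χ ≤ 3 := h3 ▸
    Finset.single_le_sum (f := fun χ => b i χ * b i χ) (fun x _ => mul_self_nonneg _) hχs
  have : -1 ≤ b i χ ∧ b i χ ≤ 1 := ⟨by nlinarith, by nlinarith⟩
  omega

theorem sum_supp (i : Fin 5) (f : ι → ℤ) :
    ∑ χ ∈ s, f χ * b i χ = ∑ χ ∈ supp s b i, f χ * b i χ := by
  rw [supp, Finset.sum_filter]
  refine Finset.sum_congr rfl fun χ _ => ?_
  by_cases h : b i χ = 0 <;> simp [h]

theorem card_supp (hb : ∀ i j, ∑ χ ∈ s, b i χ * b j χ = if i = j then 3 else 2) (i : Fin 5) :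
    (supp s b i).card = 3 := by
  have h3 : ∑ χ ∈ supp s b i, b i χ * b i χ = 3 := by rw [← sum_supp, hb, if_pos rfl]
  rw [Finset.sum_congr rfl (g := fun _ => (1 : ℤ)) fun χ hχ => by
    rcases sq_one hb i hχ with h | h <;> simp [h]] at h3
  simp at h3
  exact_mod_cast h3

theorem inter_card (hb : ∀ i j, ∑ χ ∈ s, b i χ * b j χ = if i = j then 3 else 2) {i j : Fin 5}
    (hij : i ≠ j) :
    (supp s b i ∩ supp s b j).card = 2 ∧
      ∀ χ ∈ supp s b i ∩ supp s b j, b i χ = b j χ := by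
  set I := supp s b i ∩ supp s b j with hI
  have h2 : ∑ χ ∈ I, b i χ * b j χ = 2 := by
    have h := hb i j
    rw [if_neg hij] at h
    rw [← h]
    refine Finset.sum_subset (fun χ hχ => (Finset.mem_filter.1 (Finset.mem_inter.1 hχ).1).1)
      fun χ hχ hn => ?_
    by_contra hne
    exact hn (Finset.mem_inter.2 ⟨Finset.mem_filter.2 ⟨hχ, left_ne_zero_of_mul hne⟩,
      Finset.mem_filter.2 ⟨hχ, right_ne_zero_of_mul hne⟩⟩)
  have hle : I.card ≤ 3 := (Finset.card_le_card Finset.inter_subset_left).trans (card_supp hb i).le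
  have hval : ∀ χ ∈ I, b i χ * b j χ = 1 ∨ b i χ * b j χ = -1 := fun χ hχ => by
    rcases sq_one hb i (Finset.mem_inter.1 hχ).1 with h | h <;>
      rcases sq_one hb j (Finset.mem_inter.1 hχ).2 with h' | h' <;> simp [h, h']
  -- the number of disagreements
  set D := I.filter fun χ => b i χ * b j χ = -1 with hD
  have hsum : ∑ χ ∈ I, b i χ * b j χ = (I.card : ℤ) - 2 * D.card := by
    rw [hD, Finset.card_filter, Finset.card_eq_sum_ones, Nat.cast_sum, Nat.cast_sum, Finset.mul_sum,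
      ← Finset.sum_sub_distrib]
    refine Finset.sum_congr rfl fun χ hχ => ?_
    rcases hval χ hχ with h | h <;> simp [h]
  have hD0 : D.card = 0 := by omega
  refine ⟨by omega, fun χ hχ => ?_⟩
  have hne : b i χ * b j χ ≠ -1 := fun h => by
    have hχD : χ ∈ D := Finset.mem_filter.2 ⟨hχ, h⟩
    have := Finset.card_pos.2 ⟨χ, hχD⟩
    omega
  rcases sq_one hb i (Finset.mem_inter.1 hχ).1 with h | h <;>
    rcases sq_one hb j (Finset.mem_inter.1 hχ).2 with h' | h' <;> simp [h, h'] at hne ⊢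

/-- The common pair and the private positions. -/
theorem exists_pair (hb : ∀ i j, ∑ χ ∈ s, b i χ * b j χ = if i = j then 3 else 2) :
    ∃ P : Finset ι, P.card = 2 ∧ ∃ x : Fin 5 → ι, Function.Injective x ∧ (∀ l, x l ∉ P) ∧
      ∀ l, supp s b l = insert (x l) P := by
  obtain ⟨j, k, hjk, hj0, hk0, hP⟩ : ∃ j k : Fin 5, j ≠ k ∧ j ≠ 0 ∧ k ≠ 0 ∧
      supp s b 0 ∩ supp s b j = supp s b 0 ∩ supp s b k := by
    have hmaps : ∀ l ∈ (Finset.univ.erase (0 : Fin 5)),
        supp s b 0 ∩ supp s b l ∈ (supp s b 0).powersetCard 2 := fun l hl =>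
      Finset.mem_powersetCard.2 ⟨Finset.inter_subset_left,
        (inter_card hb (Finset.ne_of_mem_erase hl).symm).1⟩
    obtain ⟨j, hj, k, hk, hne, he⟩ := Finset.exists_ne_map_eq_of_card_lt_of_maps_to
      (by rw [Finset.card_powersetCard, card_supp hb]; simp [Nat.choose]) hmaps
    exact ⟨j, k, hne, Finset.ne_of_mem_erase hj, Finset.ne_of_mem_erase hk, he⟩
  set P := supp s b 0 ∩ supp s b j with hPdef
  have hP2 : P.card = 2 := (inter_card hb hj0.symm).1
  have hsub : ∀ l, P ⊆ supp s b l := by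
    have hP0 : P ⊆ supp s b 0 := Finset.inter_subset_left
    have hPj : P ⊆ supp s b j := Finset.inter_subset_right
    have hPk : P ⊆ supp s b k := hP ▸ Finset.inter_subset_right
    have hextra : ∀ i, P ⊆ supp s b i → ∃ y, supp s b i \ P = {y} := fun i hi =>
      Finset.card_eq_one.1 (by rw [Finset.card_sdiff_of_subset hi, card_supp hb, hP2])
    obtain ⟨r, hr⟩ := hextra 0 hP0
    obtain ⟨y, hy⟩ := hextra j hPj
    obtain ⟨z, hz⟩ := hextra k hPk
    have mem' : ∀ {i : Fin 5} {w : ι}, supp s b i \ P = {w} → w ∈ supp s b i ∧ w ∉ P :=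
      fun hw => Finset.mem_sdiff.1 (hw ▸ Finset.mem_singleton_self _)
    have hdist : ∀ {i i' : Fin 5}, i ≠ i' → P ⊆ supp s b i → P ⊆ supp s b i' → ∀ {v w : ι},
        supp s b i \ P = {v} → supp s b i' \ P = {w} → v ≠ w := by
      intro i i' hii hi hi' v w hv hw hvw
      have h3 : insert v P ⊆ supp s b i ∩ supp s b i' := Finset.insert_subset
        (Finset.mem_inter.2 ⟨(mem' hv).1, hvw ▸ (mem' hw).1⟩) (Finset.subset_inter hi hi')
      have := Finset.card_le_card h3
      rw [Finset.card_insert_of_notMem (mem' hv).2, hP2, (inter_card hb hii).1] at this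
      omega
    have hry := hdist hj0.symm hP0 hPj hr hy
    have hrz := hdist hk0.symm hP0 hPk hr hz
    have hyz := hdist hjk hPj hPk hy hz
    intro l
    by_contra hl
    have hlt : (supp s b l ∩ P).card ≤ 1 := by
      have hss : supp s b l ∩ P ⊂ P := Finset.ssubset_iff_subset_ne.2
        ⟨Finset.inter_subset_right, fun h => hl (h ▸ Finset.inter_subset_left)⟩
      have := Finset.card_lt_card hss
      omega
    have hget : ∀ i, P ⊆ supp s b i → ∀ w, supp s b i \ P = {w} →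
        w ∈ supp s b l ∧ (supp s b l ∩ P).card = 1 := by
      intro i hi w hw
      have hli : l ≠ i := fun h => hl (h ▸ hi)
      have h2 := (inter_card hb hli).1
      have hsplit : supp s b l ∩ supp s b i ⊆ (supp s b l ∩ P) ∪ (supp s b l ∩ {w}) := by
        rw [← hw]
        intro a ha
        obtain ⟨ha1, ha2⟩ := Finset.mem_inter.1 ha
        by_cases haP : a ∈ P
        · exact Finset.mem_union_left _ (Finset.mem_inter.2 ⟨ha1, haP⟩)
        · exact Finset.mem_union_right _ (Finset.mem_inter.2 ⟨ha1, Finset.mem_sdiff.2 ⟨ha2, haP⟩⟩)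
      have h3 := (Finset.card_le_card hsplit).trans (Finset.card_union_le _ _)
      have h4 : (supp s b l ∩ {w}).card ≤ 1 :=
        (Finset.card_le_card Finset.inter_subset_right).trans (Finset.card_singleton w).le
      refine ⟨?_, by omega⟩
      by_contra hw'
      rw [Finset.inter_singleton_of_notMem hw', Finset.card_empty] at h3
      omega
    have hr' := hget 0 hP0 r hr
    have hy' := hget j hPj y hy
    have hz' := hget k hPk z hz
    obtain ⟨v, hv⟩ := Finset.card_eq_one.1 hr'.2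
    have hv' : v ∈ supp s b l ∧ v ∈ P := Finset.mem_inter.1 (hv ▸ Finset.mem_singleton_self v)
    have h4 : ({v, r, y, z} : Finset ι) ⊆ supp s b l := by
      simp [Finset.insert_subset_iff, hv'.1, hr'.1, hy'.1, hz'.1]
    have hvne : ∀ {i : Fin 5} {w : ι}, supp s b i \ P = {w} → v ≠ w :=
      fun hw e => (mem' hw).2 (e ▸ hv'.2)
    have h5 := Finset.card_le_card h4
    rw [card_supp hb, Finset.card_insert_of_notMem (by simp [hvne hr, hvne hy, hvne hz]),
      Finset.card_insert_of_notMem (by simp [hry, hrz]), Finset.card_pair hyz] at h5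
    omega
  have hx : ∀ l, ∃ y, supp s b l \ P = {y} := fun l =>
    Finset.card_eq_one.1 (by rw [Finset.card_sdiff_of_subset (hsub l), card_supp hb, hP2])
  choose x hx using hx
  have hmem : ∀ l, x l ∈ supp s b l ∧ x l ∉ P := fun l =>
    Finset.mem_sdiff.1 (hx l ▸ Finset.mem_singleton_self _)
  refine ⟨P, hP2, x, fun l l' e => ?_, fun l => (hmem l).2, fun l => ?_⟩
  · by_contra hll
    have h3 : insert (x l) P ⊆ supp s b l ∩ supp s b l' := Finset.insert_subset
      (Finset.mem_inter.2 ⟨(hmem l).1, e ▸ (hmem l').1⟩) (Finset.subset_inter (hsub l) (hsub l'))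
    have := Finset.card_le_card h3
    rw [Finset.card_insert_of_notMem (hmem l).2, hP2, (inter_card hb hll).1] at this
    omega
  · refine (Finset.eq_of_subset_of_card_le (Finset.insert_subset (hmem l).1 (hsub l)) ?_).symm
    rw [Finset.card_insert_of_notMem (hmem l).2, hP2, card_supp hb]

/-- The possible shapes. -/
theorem shape (hb : ∀ i j, ∑ χ ∈ s, b i χ * b j χ = if i = j then 3 else 2) {γ : ι → ℤ}
    (hg : ∀ i, ∑ χ ∈ s, γ χ * b i χ = 8) (hgg : ∑ χ ∈ s, γ χ * γ χ = 33) :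
    ∃ p q x, p ∈ s ∧ q ∈ s ∧ x ∈ s ∧ p ≠ q ∧ p ≠ x ∧ q ≠ x ∧
      ∃ ep eq ex u w c : ℤ, (ep = 1 ∨ ep = -1) ∧ (eq = 1 ∨ eq = -1) ∧ (ex = 1 ∨ ex = -1) ∧
        b 0 p = ep ∧ b 0 q = eq ∧ b 0 x = ex ∧ (∀ χ ∈ s, b 0 χ ≠ 0 → χ = p ∨ χ = q ∨ χ = x) ∧
        ∑ i, b i p = 5 * ep ∧ ∑ i, b i q = 5 * eq ∧ ∑ i, b i x = ex ∧
        ep * γ p = u ∧ eq * γ q = w ∧ ex * γ x = c ∧
        ((u = 4 ∧ w = 4 ∧ c = 0) ∨ (u = 3 ∧ w = 4 ∧ c = 1) ∨ (u = 4 ∧ w = 3 ∧ c = 1)) := by
  obtain ⟨P, hP2, x, hinj, hxP, hsupp⟩ := exists_pair hb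
  obtain ⟨p, q, hpq, rfl⟩ := Finset.card_eq_two.1 hP2
  have hmem : ∀ l χ, χ ∈ supp s b l ↔ χ = x l ∨ χ = p ∨ χ = q := fun l χ => by
    simp [hsupp l]
  have hps : p ∈ s := (Finset.mem_filter.1 ((hmem 0 p).2 (Or.inr (Or.inl rfl)))).1
  have hqs : q ∈ s := (Finset.mem_filter.1 ((hmem 0 q).2 (Or.inr (Or.inr rfl)))).1
  have hxs : ∀ l, x l ∈ s := fun l => (Finset.mem_filter.1 ((hmem l _).2 (Or.inl rfl))).1
  have hconst : ∀ l, b l p = b 0 p ∧ b l q = b 0 q := by
    intro l
    rcases eq_or_ne l 0 with rfl | hl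
    · exact ⟨rfl, rfl⟩
    · have h := (inter_card hb hl).2
      exact ⟨h p (Finset.mem_inter.2 ⟨(hmem l p).2 (Or.inr (Or.inl rfl)),
          (hmem 0 p).2 (Or.inr (Or.inl rfl))⟩),
        h q (Finset.mem_inter.2 ⟨(hmem l q).2 (Or.inr (Or.inr rfl)),
          (hmem 0 q).2 (Or.inr (Or.inr rfl))⟩)⟩
  have hxpq : ∀ l, x l ≠ p ∧ x l ≠ q := fun l => by simpa using hxP l
  have hzero : ∀ l χ, χ ∈ s → χ ≠ x l → χ ≠ p → χ ≠ q → b l χ = 0 := by
    intro l χ hχ h1 h2 h3
    by_contra hne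
    rcases (hmem l χ).1 (Finset.mem_filter.2 ⟨hχ, hne⟩) with h | h | h
    · exact h1 h
    · exact h2 h
    · exact h3 h
  have hgl : ∀ l, γ p * b 0 p + γ q * b 0 q + γ (x l) * b l (x l) = 8 := by
    intro l
    rw [← hg l, sum_supp l γ, hsupp l, Finset.sum_insert (hxP l), Finset.sum_pair hpq,
      (hconst l).1, (hconst l).2]
    ring
  have hsq : ∀ l, (γ (x l)) * (γ (x l)) = (γ (x l) * b l (x l)) * (γ (x l) * b l (x l)) := by
    intro l
    rcases sq_one hb l ((hmem l _).2 (Or.inl rfl)) with h | h <;> rw [h] <;> ring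
  set u := γ p * b 0 p with hu
  set w := γ q * b 0 q with hw
  set c := 8 - u - w with hc
  have hcl : ∀ l, γ (x l) * b l (x l) = c := fun l => by have := hgl l; omega
  have hbound : u * u + w * w + 5 * (c * c) ≤ 33 := by
    have hsub : insert p (insert q (Finset.univ.image x)) ⊆ s := Finset.insert_subset hps
      (Finset.insert_subset hqs fun χ hχ => by
        obtain ⟨l, -, rfl⟩ := Finset.mem_image.1 hχ
        exact hxs l)
    have h1 := hgg ▸ Finset.sum_le_sum_of_subset_of_nonneg (f := fun χ => γ χ * γ χ) hsub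
      fun χ _ _ => mul_self_nonneg _
    rw [Finset.sum_insert (by simp [hpq, fun l => (hxpq l).1]),
      Finset.sum_insert (by simp [fun l => (hxpq l).2]),
      Finset.sum_image (fun a _ a' _ h => hinj h),
      Finset.sum_congr rfl (g := fun _ => c * c) fun l _ => by rw [hsq, hcl],
      Finset.sum_const, Finset.card_univ, Fintype.card_fin] at h1
    have hp : γ p * γ p = u * u := by
      rcases sq_one hb 0 ((hmem 0 p).2 (Or.inr (Or.inl rfl))) with h | h <;> rw [hu, h] <;> ring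
    have hq : γ q * γ q = w * w := by
      rcases sq_one hb 0 ((hmem 0 q).2 (Or.inr (Or.inr rfl))) with h | h <;> rw [hw, h] <;> ring
    rw [hp, hq] at h1
    simp only [nsmul_eq_mul, Nat.cast_ofNat] at h1
    linarith
  refine ⟨p, q, x 0, hps, hqs, hxs 0, hpq, (hxpq 0).1.symm, (hxpq 0).2.symm, b 0 p, b 0 q,
    b 0 (x 0), u, w, c, sq_one hb 0 ((hmem 0 p).2 (Or.inr (Or.inl rfl))),
    sq_one hb 0 ((hmem 0 q).2 (Or.inr (Or.inr rfl))), sq_one hb 0 ((hmem 0 _).2 (Or.inl rfl)),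
    rfl, rfl, rfl, ?_, ?_, ?_, ?_, by rw [hu]; ring, by rw [hw]; ring, by rw [← hcl 0]; ring, ?_⟩
  · intro χ hχ hne
    rcases (hmem 0 χ).1 (Finset.mem_filter.2 ⟨hχ, hne⟩) with h | h | h
    exacts [Or.inr (Or.inr h), Or.inl h, Or.inr (Or.inl h)]
  · simp [fun l => (hconst l).1]
  · simp [fun l => (hconst l).2]
  · refine Finset.sum_eq_single 0 (fun l _ hl => hzero l _ (hxs 0) (fun e => hl (hinj e).symm)
      (hxpq 0).1 (hxpq 0).2) (by simp)
  · have hu1 : -5 ≤ u ∧ u ≤ 5 := ⟨by nlinarith, by nlinarith⟩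
    have hw1 : -5 ≤ w ∧ w ≤ 5 := ⟨by nlinarith, by nlinarith⟩
    obtain ⟨hu1, hu2⟩ := hu1
    obtain ⟨hw1, hw2⟩ := hw1
    rw [hc] at hbound ⊢
    clear_value u w
    interval_cases u <;> interval_cases w <;> omega

end Cfsg.Agent.Lib.U34Type98.Vectors
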