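import Cfsg.Agent.Lib.U34Type98.Chars
import Cfsg.Agent.Lib.U34Type98.Vectors
import Cfsg.Agent.Lib.H80.LinearChar

/-!
# No simple group has a Sylow 2-subgroup of type `U₃(4)` and 2-nilpotent centralisers
-/

set_option autoImplicit false
set_option linter.style.haveILetI false
set_option linter.unusedSectionVars false

namespace Cfsg.Agent.Lib.U34Type98.Main

open Subgroup Cfsg.Agent.Lib.Characters.Basic

universe u

attribute [local instance] Classical.propDecidable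

theorem term_bound {c B : ℕ} (hB : 0 < B) {P : ℤ} (hP : (B : ℤ) ≤ |P|) :
    -((c : ℚ) / B) ≤ (c : ℚ) / P ∧ (c : ℚ) / P ≤ (c : ℚ) / B := by
  refine abs_le.1 ?_
  rw [abs_div, Nat.abs_cast]
  refine div_le_div_of_nonneg_left (Nat.cast_nonneg c) (Nat.cast_pos.2 hB) ?_
  exact_mod_cast hP

/-- The arithmetic contradiction. -/
theorem no_solution {P Q X u w c : ℤ} (hP1 : 2 ≤ |P|) (hQ1 : 2 ≤ |Q|) (hX1 : 2 ≤ |X|)
    (hP : ∃ k, P = 64 * k + 15 + 12 * u) (hQ : ∃ k, Q = 64 * k + 15 + 12 * w)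
    (hX : ∃ k, X = 64 * k + 3 + 12 * c)
    (huwc : (u = 4 ∧ w = 4 ∧ c = 0) ∨ (u = 3 ∧ w = 4 ∧ c = 1) ∨ (u = 4 ∧ w = 3 ∧ c = 1))
    (h : ((15 - 4 * u) ^ 2 : ℚ) / P + ((15 - 4 * w) ^ 2 : ℚ) / Q + ((3 - 4 * c) ^ 2 : ℚ) / X = 1) :
    False := by
  obtain ⟨i, hi⟩ := hP
  obtain ⟨j, hj⟩ := hQ
  obtain ⟨k, hk⟩ := hX
  have key : ∀ {Y : ℤ}, 2 ≤ |Y| → (Y < 0 ∧ |Y| = -Y) ∨ (0 < Y ∧ |Y| = Y) := fun {Y} hY => by
    rcases abs_cases Y with ⟨e, h'⟩ | ⟨e, h'⟩
    · exact Or.inr ⟨by omega, e⟩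
    · exact Or.inl ⟨h', e⟩
  have kP := key hP1
  have kQ := key hQ1
  have kX := key hX1
  rcases huwc with ⟨rfl, rfl, rfl⟩ | ⟨rfl, rfl, rfl⟩ | ⟨rfl, rfl, rfl⟩ <;> norm_num at h
  · have bP := term_bound (c := 1) (B := 63) (by norm_num) (P := P) (by omega)
    have bQ := term_bound (c := 1) (B := 63) (by norm_num) (P := Q) (by omega)
    norm_num at bP bQ
    rcases eq_or_ne X 3 with rfl | hne
    · norm_num at h
      linarith [bP.1, bQ.1]
    · have bX := term_bound (c := 9) (B := 61) (by norm_num) (P := X) (by omega)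
      norm_num at bX
      linarith [bP.2, bQ.2, bX.2]
  · have bP := term_bound (c := 9) (B := 13) (by norm_num) (P := P) (by omega)
    have bQ := term_bound (c := 1) (B := 63) (by norm_num) (P := Q) (by omega)
    have bX := term_bound (c := 1) (B := 15) (by norm_num) (P := X) (by omega)
    norm_num at bP bQ bX
    linarith [bP.2, bQ.2, bX.2]
  · have bP := term_bound (c := 1) (B := 63) (by norm_num) (P := P) (by omega)
    have bQ := term_bound (c := 9) (B := 13) (by norm_num) (P := Q) (by omega)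
    have bX := term_bound (c := 1) (B := 15) (by norm_num) (P := X) (by omega)
    norm_num at bP bQ bX
    linarith [bP.2, bQ.2, bX.2]

/-- There is no simple group with such a Sylow 2-subgroup. -/
theorem not_simple {G : Type u} [Group G] [Finite G] [IsSimpleGroup G]
    (hG : ¬ IsMulCommutative G) {S : Sylow 2 G} (D : Data S) : False := by
  haveI : Fact (Nat.Prime 2) := ⟨Nat.prime_two⟩
  letI := Fintype.ofFinite ↥(S : Subgroup G)
  obtain ⟨σ, T⟩ := exists_twist D hG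
  obtain ⟨M, hM⟩ := Blocks.exists_isPModular 2 Nat.prime_two
  haveI : Nontrivial ↥(center ↥(S : Subgroup G)) :=
    Finite.one_lt_card_iff_nontrivial.1 (by rw [D.card_center]; norm_num)
  obtain ⟨⟨a, ha⟩, ha1⟩ := exists_ne (1 : ↥(center ↥(S : Subgroup G)))
  obtain ⟨b, γ, h1, h2, h3, h4, h5⟩ :=
    Chars.exists_config D M hM T ha (fun h => ha1 (Subtype.ext h))
  obtain ⟨p, q, x, hp, hq, hx, hpq, hpx, hqx, ep, eq, ex, u, w, c, hep, heq, hex, bp, bq, bx,
    hsupp, Tp, Tq, Tx, gp, gq, gx, huwc⟩ := Vectors.shape h1 h2 h3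
  have hdeg : ∀ χ ∈ (Section.blk G M).erase (oneChar G), ∀ e : ℤ, (e = 1 ∨ e = -1) →
      ∀ F : ℤ, (χ : G → ℂ) 1 = (F : ℂ) → 2 ≤ |e * F| := by
    intro χ hχ e he F hF
    obtain ⟨n, hn, hn1⟩ := exists_degree_pos χ
    have hne : n ≠ 1 := by
      rintro rfl
      rw [Nat.cast_one] at hn1
      refine Finset.ne_of_mem_erase hχ (Subtype.ext (funext fun g => ?_))
      rw [oneChar_apply]
      exact H80.LinearChar.eq_one_of_mem_commutator χ hn1
        (by rw [SmallGroups.Sylow.commutator_eq_top hG]; exact mem_top g)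
    have hFn : F = (n : ℤ) := by
      rw [hn1] at hF
      exact_mod_cast hF.symm
    rw [abs_mul, show |e| = 1 by rcases he with rfl | rfl <;> rfl, one_mul, hFn, Nat.abs_cast]
    omega
  -- the values at the three characters
  obtain ⟨Ap, mp, Fp⟩ := h4 p
  obtain ⟨Aq, mq, Fq⟩ := h4 q
  obtain ⟨Ax, mx, Fx⟩ := h4 x
  rw [Tp] at Ap Fp
  rw [Tq] at Aq Fq
  rw [Tx] at Ax Fx
  have sq : ∀ {e : ℤ}, (e = 1 ∨ e = -1) → e * e = 1 := by rintro e (rfl | rfl) <;> rfl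
  have gp' : γ p = ep * u := by rw [← gp, ← mul_assoc, sq hep, one_mul]
  have gq' : γ q = eq * w := by rw [← gq, ← mul_assoc, sq heq, one_mul]
  have gx' : γ x = ex * c := by rw [← gx, ← mul_assoc, sq hex, one_mul]
  rw [gp'] at Ap Fp
  rw [gq'] at Aq Fq
  rw [gx'] at Ax Fx
  set P : ℤ := ep * (64 * mp + 3 * (5 * ep) + 12 * (ep * u)) with hPdef
  set Q : ℤ := eq * (64 * mq + 3 * (5 * eq) + 12 * (eq * w)) with hQdef
  set X : ℤ := ex * (64 * mx + 3 * ex + 12 * (ex * c)) with hXdef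
  refine no_solution (P := P) (Q := Q) (X := X) (u := u) (w := w) (c := c)
    (hdeg p hp ep hep _ Fp) (hdeg q hq eq heq _ Fq) (hdeg x hx ex hex _ Fx)
    ⟨ep * mp, by rw [hPdef]; linear_combination (15 + 12 * u) * sq hep⟩
    ⟨eq * mq, by rw [hQdef]; linear_combination (15 + 12 * w) * sq heq⟩
    ⟨ex * mx, by rw [hXdef]; linear_combination (3 + 12 * c) * sq hex⟩ huwc ?_
  have hsum : ∑ χ ∈ (Section.blk G M).erase (oneChar G),
      (b 0 χ : ℂ) * (χ : G → ℂ) (a : G) ^ 2 / (χ : G → ℂ) 1 =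
      ∑ χ ∈ ({p, q, x} : Finset (Cfsg.IrrCharacter G)),
        (b 0 χ : ℂ) * (χ : G → ℂ) (a : G) ^ 2 / (χ : G → ℂ) 1 := by
    refine (Finset.sum_subset (fun χ hχ => ?_) fun χ hχ hn => ?_).symm
    · simp only [Finset.mem_insert, Finset.mem_singleton] at hχ
      rcases hχ with rfl | rfl | rfl <;> assumption
    · have : b 0 χ = 0 := by
        by_contra h
        exact hn (by simpa using hsupp χ hχ h)
      simp [this]
  rw [hsum, Finset.sum_insert (by simp [hpq, hpx]), Finset.sum_pair hqx, bp, bq, bx, Ap, Aq, Ax,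
    Fp, Fq, Fx] at h5
  have hterm : ∀ {e z : ℤ} (F : ℤ), (e = 1 ∨ e = -1) →
      (e : ℂ) * ((e * z : ℤ) : ℂ) ^ 2 / (F : ℂ) = (((z ^ 2 : ℚ) / (e * F : ℤ) : ℚ) : ℂ) := by
    rintro e z F (rfl | rfl) <;> push_cast <;> field_simp
  rw [show 3 * (5 * ep) - 4 * (ep * u) = ep * (15 - 4 * u) by ring,
    show 3 * (5 * eq) - 4 * (eq * w) = eq * (15 - 4 * w) by ring,
    show 3 * ex - 4 * (ex * c) = ex * (3 - 4 * c) by ring,
    hterm _ hep, hterm _ heq, hterm _ hex, ← hPdef, ← hQdef, ← hXdef] at h5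
  have h6 : (((15 - 4 * u : ℤ) : ℚ) ^ 2 / (P : ℚ) + (((15 - 4 * w : ℤ) : ℚ) ^ 2 / (Q : ℚ) +
      ((3 - 4 * c : ℤ) : ℚ) ^ 2 / (X : ℚ))) = 1 := by
    exact_mod_cast h5
  push_cast at h6
  linarith

end Cfsg.Agent.Lib.U34Type98.Main
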