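import Cfsg.Agent.Lib.U34Type98.Sections

/-!
# The principal 2-block of a group with a Sylow 2-subgroup of type `U₃(4)`
-/

set_option autoImplicit false
set_option linter.style.haveILetI false
set_option linter.unusedSectionVars false

namespace Cfsg.Agent.Lib.U34Type98.Chars

open Subgroup Cfsg.Agent.Lib.Characters.Basic Linear Cfsg.Agent.Lib.U34Type98.Section
open scoped ComplexConjugate

universe u

attribute [local instance] Classical.propDecidable

variable {G : Type u} [Group G] [Finite G] {S : Sylow 2 G}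
  {σ : ↥(S : Subgroup G) ≃* ↥(S : Subgroup G)}

/-- The pairing of a character of `G` with a function on `S`. -/
noncomputable def pair [Fintype ↥(S : Subgroup G)] (χ : Cfsg.IrrCharacter G)
    (F : ↥(S : Subgroup G) → ℤ) : ℂ := ∑ x : ↥(S : Subgroup G), (χ : G → ℂ) x * (F x : ℂ)

variable (D : Data S) (M : Ideal Cfsg.AlgInt) (hM : Cfsg.IsPModular 2 M)
  [Fintype ↥(S : Subgroup G)]
include D

theorem isConj_rot (T : Twist σ) (i : Fin 3) (x : ↥(S : Subgroup G)) :
    IsConj (x : G) (rot σ i x : G) := by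
  match i with
  | 0 => exact IsConj.refl _
  | 1 => exact T.isConj x
  | 2 => exact (T.isConj x).trans (T.isConj (σ x))

theorem apply_rot (T : Twist σ) (χ : Cfsg.IrrCharacter G) (i : Fin 3) (x : ↥(S : Subgroup G)) :
    (χ : G → ℂ) (rot σ i x : G) = (χ : G → ℂ) x :=
  (classFunction_apply_of_isConj (isClassFunction_irr χ) (isConj_rot D T i x)).symm

/-- Fusion counted in `S`. -/
theorem card_fusion (T : Twist σ) {x y : ↥(S : Subgroup G)} (hx : x ≠ 1) :
    (∑ i : Fin 3, ∑ t : ↥(S : Subgroup G), if t * rot σ i x * t⁻¹ = y then (1 : ℂ) else 0) =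
      if IsConj (x : G) (y : G) then (two (x : G) : ℂ) else 0 := by
  split_ifs with hc
  · obtain ⟨i₀, t₀, h0⟩ := T.fusion x y hx hc
    rw [← rot_apply] at h0
    rw [Finset.sum_eq_single i₀]
    · rw [Finset.sum_boole, (Sections.exists_sec D hx).2, ← Fintype.card_subtype,
        ← Nat.card_eq_fintype_card, Nat.cast_inj]
      refine Nat.card_congr
        { toFun := fun t => ⟨(rot σ i₀).symm (t₀⁻¹ * t.1), ?_⟩
          invFun := fun t => ⟨t₀ * rot σ i₀ t.1, ?_⟩
          left_inv := fun t => Subtype.ext (by simp)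
          right_inv := fun t => Subtype.ext (by simp) }
      · apply (rot σ i₀).injective
        rw [map_mul (rot σ i₀), map_mul (rot σ i₀), MulEquiv.apply_symm_apply]
        calc t₀⁻¹ * t.1 * rot σ i₀ x = t₀⁻¹ * (t.1 * rot σ i₀ x * t.1⁻¹) * t.1 := by group
          _ = t₀⁻¹ * (t₀ * rot σ i₀ x * t₀⁻¹) * t.1 := by rw [t.2, h0]
          _ = _ := by group
      · calc t₀ * rot σ i₀ t.1 * rot σ i₀ x * (t₀ * rot σ i₀ t.1)⁻¹
            = t₀ * (rot σ i₀ (t.1 * x)) * (rot σ i₀ t.1)⁻¹ * t₀⁻¹ := by rw [map_mul]; group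
          _ = t₀ * (rot σ i₀ (x * t.1)) * (rot σ i₀ t.1)⁻¹ * t₀⁻¹ := by rw [t.2]
          _ = t₀ * rot σ i₀ x * t₀⁻¹ := by rw [map_mul]; group
          _ = y := h0
    · intro i _ hi
      refine Finset.sum_eq_zero fun t _ => if_neg fun h => hi ?_
      refine T.not_conj D hx (t := t₀⁻¹ * t) ?_
      rw [← rot_apply, ← rot_apply]
      calc t₀⁻¹ * t * rot σ i x * (t₀⁻¹ * t)⁻¹ = t₀⁻¹ * (t * rot σ i x * t⁻¹) * t₀ := by group
        _ = t₀⁻¹ * (t₀ * rot σ i₀ x * t₀⁻¹) * t₀ := by rw [h, h0]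
        _ = _ := by group
    · exact fun h => absurd (Finset.mem_univ _) h
  · refine Finset.sum_eq_zero fun i _ => Finset.sum_eq_zero fun t _ => if_neg fun h => hc ?_
    exact (isConj_rot D T i x).trans (isConj_iff.2 ⟨t, congrArg Subtype.val h⟩)

include hM in
/-- Inner products in the block of functions vanishing at `1`. -/
theorem sum_pair_mul (T : Twist σ) {F F' : ↥(S : Subgroup G) → ℤ} (hF : F 1 = 0) (hF' : F' 1 = 0)
    (hcl : ∀ t x, F' (t * x * t⁻¹) = F' x) :
    ∑ χ ∈ blk G M, pair χ F * conj (pair χ F') =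
      ((64 * ∑ i : Fin 3, ∑ x : ↥(S : Subgroup G), F x * F' (rot σ i x) : ℤ) : ℂ) := by
  have hstep : ∀ x y : ↥(S : Subgroup G),
      ∑ χ ∈ blk G M, (χ : G → ℂ) x * (F x : ℂ) * conj ((χ : G → ℂ) y * (F' y : ℂ)) =
        (F x : ℂ) * (F' y : ℂ) * ∑ i : Fin 3, ∑ t : ↥(S : Subgroup G),
          if t * rot σ i x * t⁻¹ = y then (1 : ℂ) else 0 := by
    intro x y
    rcases eq_or_ne x 1 with rfl | hx
    · simp [hF]
    rcases eq_or_ne y 1 with rfl | hy
    · simp [hF']
    obtain ⟨K, hK⟩ := (Sections.exists_sec D hx).1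
    obtain ⟨L, hL⟩ := (Sections.exists_sec D hy).1
    rw [card_fusion D T hx, ← sum_blk_mul_conj M hM hK hL, Finset.mul_sum]
    refine Finset.sum_congr rfl fun χ _ => ?_
    rw [map_mul, map_intCast]
    ring
  calc ∑ χ ∈ blk G M, pair χ F * conj (pair χ F')
      = ∑ x : ↥(S : Subgroup G), ∑ y : ↥(S : Subgroup G),
          (F x : ℂ) * (F' y : ℂ) * ∑ i : Fin 3, ∑ t : ↥(S : Subgroup G),
            if t * rot σ i x * t⁻¹ = y then (1 : ℂ) else 0 := by
        simp only [pair, map_sum, Finset.sum_mul, Finset.mul_sum, ← hstep]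
        rw [Finset.sum_comm]
        conv_rhs => rw [Finset.sum_comm]
        exact Finset.sum_congr rfl fun x _ => Finset.sum_comm
    _ = ∑ x : ↥(S : Subgroup G), ∑ i : Fin 3, ∑ _t : ↥(S : Subgroup G),
          (F x : ℂ) * (F' (rot σ i x) : ℂ) := by
        simp only [Finset.mul_sum, mul_ite, mul_one, mul_zero]
        refine Finset.sum_congr rfl fun x _ => ?_
        rw [Finset.sum_comm]
        refine Finset.sum_congr rfl fun i _ => ?_
        rw [Finset.sum_comm]
        refine Finset.sum_congr rfl fun t _ => ?_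
        rw [Finset.sum_ite_eq, if_pos (Finset.mem_univ _), hcl]
    _ = _ := by
        simp only [Finset.sum_const, Finset.card_univ, ← Nat.card_eq_fintype_card, D.card]
        rw [Finset.sum_comm]
        push_cast
        simp only [Finset.mul_sum, nsmul_eq_mul]
        norm_num

include hM in
theorem sum_degree_pair {F : ↥(S : Subgroup G) → ℤ} (hF : F 1 = 0) :
    ∑ χ ∈ blk G M, (χ : G → ℂ) 1 * pair χ F = 0 := by
  simp only [pair, Finset.mul_sum]
  rw [Finset.sum_comm]
  refine Finset.sum_eq_zero fun x _ => ?_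
  rcases eq_or_ne x 1 with rfl | hx
  · simp [hF]
  obtain ⟨K, hK⟩ := (Sections.exists_sec D hx).1
  simp only [← mul_assoc, ← Finset.sum_mul, sum_blk_degree M hM hK, zero_mul]

include hM in
/-- The class algebra equation. -/
theorem sum_count_pair {F : ↥(S : Subgroup G) → ℤ}
    (hF : ∀ z ∈ center ↥(S : Subgroup G), F z = 0) {v : G} (hv : v * v = 1) :
    ∑ χ ∈ blk G M, pair χ F * (χ : G → ℂ) v ^ 2 / (χ : G → ℂ) 1 = 0 := by
  simp only [pair, Finset.sum_mul, Finset.sum_div]
  rw [Finset.sum_comm]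
  refine Finset.sum_eq_zero fun x _ => ?_
  by_cases hx : x ∈ center ↥(S : Subgroup G)
  · simp [hF x hx]
  have hx1 : x ≠ 1 := fun h => hx (h ▸ one_mem _)
  obtain ⟨K, hK⟩ := (Sections.exists_sec D hx1).1
  have hinv : ∀ a : G, a * v * a⁻¹ * (a * v * a⁻¹) = 1 := fun a => by
    calc a * v * a⁻¹ * (a * v * a⁻¹) = a * (v * v) * a⁻¹ := by group
      _ = 1 := by rw [hv]; group
  have h := sum_blk_count M hM hK (v := v)
    fun y hy a b => Sections.not_two_involutions D hx hK hy (hinv a) (hinv b)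
  rw [← mul_zero (F x : ℂ), ← h, Finset.mul_sum]
  exact Finset.sum_congr rfl fun χ _ => by ring

theorem off_conj (ψ : Lin S) (t x : ↥(S : Subgroup G)) : off ψ (t * x * t⁻¹) = off ψ x := by
  have h : ψ (t * x * t⁻¹) = ψ x := by
    rw [map_mul, map_mul, map_inv, mul_comm (ψ t), mul_inv_cancel_right]
  simp only [off, h]

omit D in
/-- The function attached to the character of degree 4. -/
noncomputable def hfun (θ : ↥(S : Subgroup G) → ℤ) (x : ↥(S : Subgroup G)) : ℤ := θ x - 4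

/-- The properties of the table of the character of degree 4. -/
structure Table (θ : ↥(S : Subgroup G) → ℤ) : Prop where
  isChar : Cfsg.IsCharacter ↥(S : Subgroup G) (fun x => (θ x : ℂ))
  one : θ 1 = 4
  off : ∀ x, x ∉ center ↥(S : Subgroup G) → θ x = 0
  sq : ∀ z ∈ center ↥(S : Subgroup G), θ z * θ z = 16
  sum : ∑ x, θ x = 0

variable {θ : ↥(S : Subgroup G) → ℤ}

theorem hfun_conj (hθ : Table θ) (t x : ↥(S : Subgroup G)) :
    hfun θ (t * x * t⁻¹) = hfun θ x := by
  have h := isClassFunction_of_isCharacter hθ.isChar x t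
  simp only [hfun, Int.cast_inj] at h ⊢
  rw [h]

/-- The values of `hfun` on the centre add up to `-16`. -/
theorem sum_hfun_center (T : Twist σ) (hθ : Table θ) :
    ∑ z ∈ Finset.univ.filter (fun x : ↥(S : Subgroup G) => x ∈ center ↥(S : Subgroup G)),
      hfun θ z = -16 := by
  simp only [hfun, Finset.sum_sub_distrib, Finset.sum_const]
  rw [← Fintype.card_subtype, ← Nat.card_eq_fintype_card,
    show Nat.card {x // x ∈ center ↥(S : Subgroup G)} = 4 from D.card_center,
    Finset.sum_filter_of_ne fun x _ hx => not_not.1 fun h => hx (hθ.off x h), hθ.sum]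
  norm_num

theorem sum_rot_center (T : Twist σ) (hθ : Table θ) {z : ↥(S : Subgroup G)}
    (hz : z ∈ center ↥(S : Subgroup G)) (hz1 : z ≠ 1) :
    ∑ i : Fin 3, hfun θ (rot σ i z) = -16 := by
  obtain ⟨he, -, h01, h02, h12, hb, hc⟩ := Theta.center_eq D T hz hz1
  have h := sum_hfun_center D T hθ
  rw [he, Finset.sum_insert (by simp [hz1.symm, hb.symm, hc.symm]),
    Finset.sum_insert (by simp [h01, h02]), Finset.sum_pair h12] at h
  rw [Fin.sum_univ_three]
  have h1 : hfun θ 1 = 0 := by simp [hfun, hθ.one]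
  show hfun θ z + hfun θ (σ z) + hfun θ (σ (σ z)) = -16
  linarith

theorem hfun_off (hθ : Table θ) {x : ↥(S : Subgroup G)} (hx : x ∉ center ↥(S : Subgroup G)) :
    hfun θ x = -4 := by simp [hfun, hθ.off x hx]

theorem rot_mem_center {i : Fin 3} {x : ↥(S : Subgroup G)} :
    rot σ i x ∈ center ↥(S : Subgroup G) ↔ x ∈ center ↥(S : Subgroup G) := by
  simp only [mem_center_iff]
  constructor
  · intro h g
    exact (rot σ i).injective (by simpa using h (rot σ i g))
  · intro h g
    obtain ⟨g, rfl⟩ := (rot σ i).surjective g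
    rw [← map_mul, h g, map_mul]

theorem sum_hfun_off (T : Twist σ) (hθ : Table θ) {ψ : Lin S} (hψ : ψ ≠ 1) :
    ∑ i : Fin 3, ∑ x, hfun θ x * off ψ (rot σ i x) = 768 := by
  have h : ∀ i : Fin 3, ∑ x, hfun θ x * off ψ (rot σ i x) = 256 := fun i => by
    have h1 : ∀ x, hfun θ x * off ψ (rot σ i x) = -4 * off ψ (rot σ i x) := fun x => by
      by_cases hx : x ∈ center ↥(S : Subgroup G)
      · rw [off_center D ψ ((rot_mem_center D).2 hx), mul_zero, mul_zero]
      · rw [hfun_off D hθ hx]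
    rw [Finset.sum_congr rfl fun x _ => h1 x, ← Finset.mul_sum,
      Fintype.sum_equiv (rot σ i).toEquiv (fun x => off ψ (rot σ i x)) (off ψ) fun x => rfl,
      sum_off D hψ]
    norm_num
  simp [h]

theorem sum_hfun_hfun (T : Twist σ) (hθ : Table θ) :
    ∑ i : Fin 3, ∑ x, hfun θ x * hfun θ (rot σ i x) = 3136 := by
  rw [Finset.sum_comm]
  simp only [← Finset.mul_sum]
  rw [← Finset.sum_filter_add_sum_filter_not Finset.univ
    (fun x : ↥(S : Subgroup G) => x ∈ center ↥(S : Subgroup G))]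
  have hin : ∑ x ∈ Finset.univ.filter (fun x : ↥(S : Subgroup G) => x ∈ center ↥(S : Subgroup G)),
      hfun θ x * ∑ i : Fin 3, hfun θ (rot σ i x) = 256 := by
    rw [Finset.sum_congr rfl (g := fun x => hfun θ x * -16) fun x hx => by
      rcases eq_or_ne x 1 with rfl | hx1
      · simp [hfun, hθ.one]
      · rw [sum_rot_center D T hθ (Finset.mem_filter.1 hx).2 hx1],
      ← Finset.sum_mul, sum_hfun_center D T hθ]
    norm_num
  have hout : ∀ x ∈ Finset.univ.filter (fun x : ↥(S : Subgroup G) =>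
      x ∉ center ↥(S : Subgroup G)), hfun θ x * ∑ i : Fin 3, hfun θ (rot σ i x) = 48 := by
    intro x hx
    have hx' := (Finset.mem_filter.1 hx).2
    simp [hfun_off D hθ hx', hfun_off D hθ fun h => hx' ((rot_mem_center D).1 h)]
  rw [hin, Finset.sum_congr rfl hout, Finset.sum_const]
  have hc : (Finset.univ.filter fun x : ↥(S : Subgroup G) => x ∉ center ↥(S : Subgroup G)).card =
      60 := by
    rw [Finset.filter_not, Finset.card_univ_diff, ← Nat.card_eq_fintype_card, D.card,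
      ← Fintype.card_subtype, ← Nat.card_eq_fintype_card]
    rw [show Nat.card {x // x ∈ center ↥(S : Subgroup G)} = 4 from D.card_center]
  rw [hc]
  norm_num

theorem sum_off_rot (T : Twist σ) {R : Fin 5 → Lin S} (hR : ∀ j, R j ≠ 1)
    (hinj : Function.Injective (fun p : Fin 5 × Fin 3 => act σ p.2 (R p.1))) (j k : Fin 5) :
    ∑ i : Fin 3, ∑ x, off (R j) x * off (R k) (rot σ i x) = if j = k then 256 else 192 := by
  have h : ∀ i : Fin 3, ∑ x, off (R j) x * off (R k) (rot σ i x) =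
      if j = k ∧ i = 0 then 128 else 64 := fun i => by
    have h1 : ∀ x, off (R k) (rot σ i x) = off (act σ i (R k)) x := fun x => rfl
    simp only [h1, sum_off_mul D (hR j) (act_ne_one i (hR k))]
    refine if_congr ⟨fun h => ?_, fun h => ?_⟩ rfl rfl
    · have := hinj (a₁ := (j, 0)) (a₂ := (k, i)) h
      simp only [Prod.mk.injEq] at this
      exact ⟨this.1, this.2.symm⟩
    · rw [h.1, h.2]; rfl
  rw [Fin.sum_univ_three, h, h, h]
  by_cases hjk : j = k <;> simp [hjk]

/-- The multiplicity differences are integers. -/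
theorem exists_int_off (χ : Cfsg.IrrCharacter G) (ψ : Lin S) :
    ∃ d : ℤ, pair χ (off ψ) = (64 * d : ℤ) := by
  have hc := isCharacter_comp (S : Subgroup G).subtype (isCharacter_irr χ)
  obtain ⟨m, hm⟩ := exists_classInner_nat hc (isCharacter_one (G := ↥(S : Subgroup G)))
  obtain ⟨n, hn⟩ := exists_classInner_nat hc
    (Induced.Character.isCharacter_hom (G := ↥(S : Subgroup G)) ψ)
  rw [Cfsg.classInner, D.card, inv_mul_eq_iff_eq_mul₀ (by norm_num)] at hm hn
  simp only [Function.comp_apply, coe_subtype, Pi.one_apply, map_one, mul_one, Nat.cast_ofNat] at hm hn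
  refine ⟨n - m, ?_⟩
  push_cast
  rw [mul_sub, ← hm, ← hn, pair, ← Finset.sum_sub_distrib]
  refine Finset.sum_congr rfl fun x _ => ?_
  have hre : conj (ψ x : ℂ) = (ψ x : ℂ) := by
    rw [show (ψ x : ℂ) = ((off ψ x + 1 : ℤ) : ℂ) by push_cast; rw [cast_off D]; ring, map_intCast]
  rw [cast_off D, hre]
  ring

theorem exists_int_hfun (hθ : Table θ) (χ : Cfsg.IrrCharacter G) :
    ∃ d : ℤ, pair χ (hfun θ) = (64 * d : ℤ) := by
  have hc := isCharacter_comp (S : Subgroup G).subtype (isCharacter_irr χ)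
  obtain ⟨m, hm⟩ := exists_classInner_nat hc (isCharacter_one (G := ↥(S : Subgroup G)))
  obtain ⟨n, hn⟩ := exists_classInner_nat hc hθ.isChar
  rw [Cfsg.classInner, D.card, inv_mul_eq_iff_eq_mul₀ (by norm_num)] at hm hn
  simp only [Function.comp_apply, coe_subtype, Pi.one_apply, map_one, mul_one, map_intCast,
    Nat.cast_ofNat]
    at hm hn
  refine ⟨n - 4 * m, ?_⟩
  push_cast
  rw [mul_sub, ← mul_assoc, mul_comm (64 : ℂ) 4, mul_assoc, ← hm, ← hn, pair, Finset.mul_sum,
    ← Finset.sum_sub_distrib]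
  refine Finset.sum_congr rfl fun x _ => ?_
  simp only [hfun]
  push_cast
  ring

/-- The values in terms of the multiplicities. -/
theorem values (T : Twist σ) (hθ : Table θ) {R : Fin 5 → Lin S} (hR : ∀ j, R j ≠ 1)
    (hinj : Function.Injective (fun p : Fin 5 × Fin 3 => act σ p.2 (R p.1)))
    (hsurj : ∀ ψ, ψ ≠ 1 → ∃ p : Fin 5 × Fin 3, act σ p.2 (R p.1) = ψ)
    {a : ↥(S : Subgroup G)} (ha : a ∈ center ↥(S : Subgroup G)) (ha1 : a ≠ 1)
    (χ : Cfsg.IrrCharacter G) {b : Fin 5 → ℤ} {g : ℤ}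
    (hb : ∀ j, pair χ (off (R j)) = (64 * b j : ℤ)) (hg : pair χ (hfun θ) = (64 * g : ℤ)) :
    (χ : G → ℂ) a = ((3 * ∑ j, b j - 4 * g : ℤ) : ℂ) ∧
      ∃ m : ℤ, (χ : G → ℂ) 1 = ((64 * m + 3 * ∑ j, b j + 12 * g : ℤ) : ℂ) := by
  obtain ⟨he, -, h01, h02, h12, hb1, hc1⟩ := Theta.center_eq D T ha ha1
  set U : ℂ := ∑ x ∈ Finset.univ.filter (fun x : ↥(S : Subgroup G) =>
    x ∉ center ↥(S : Subgroup G)), (χ : G → ℂ) x with hU
  set A : ℂ := (χ : G → ℂ) a with hA
  have hA1 : (χ : G → ℂ) (σ a : G) = A := apply_rot D T χ 1 a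
  have hA2 : (χ : G → ℂ) (σ (σ a) : G) = A := apply_rot D T χ 2 a
  have hcen : ∀ f : ↥(S : Subgroup G) → ℂ,
      ∑ x, f x = (f 1 + (f a + (f (σ a) + f (σ (σ a))))) +
        ∑ x ∈ Finset.univ.filter (fun x : ↥(S : Subgroup G) =>
          x ∉ center ↥(S : Subgroup G)), f x := by
    intro f
    rw [← Finset.sum_filter_add_sum_filter_not Finset.univ
      (fun x : ↥(S : Subgroup G) => x ∈ center ↥(S : Subgroup G)), he,
      Finset.sum_insert (by simp [ha1.symm, hb1.symm, hc1.symm]),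
      Finset.sum_insert (by simp [h01, h02]), Finset.sum_pair h12]
  -- the sum of all linear characters
  have hrot : ∀ (i : Fin 3) (ψ : Lin S), pair χ (off (act σ i ψ)) = pair χ (off ψ) := fun i ψ =>
    Fintype.sum_equiv (rot σ i).toEquiv _ _ fun x => by
      show (χ : G → ℂ) x * _ = (χ : G → ℂ) (rot σ i x : G) * (off ψ (rot σ i x) : ℂ)
      rw [apply_rot D T]
      rfl
  have h1 : 64 * (3 * (∑ j, b j : ℤ) : ℂ) = -16 * U := by
    have e : ∑ p : Fin 5 × Fin 3, pair χ (off (act σ p.2 (R p.1))) =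
        64 * (3 * (∑ j, b j : ℤ) : ℂ) := by
      simp only [hrot, Fintype.sum_prod_type, hb]
      push_cast
      simp only [Finset.sum_const, Finset.card_univ, Fintype.card_fin, nsmul_eq_mul,
        Finset.mul_sum]
      exact Finset.sum_congr rfl fun j _ => by push_cast; ring
    rw [← e]
    simp only [pair]
    rw [Finset.sum_comm]
    simp only [← Finset.mul_sum, ← Int.cast_sum, sum_off_all D T hR hinj hsurj]
    rw [hU, Finset.mul_sum, Finset.sum_filter]
    refine Finset.sum_congr rfl fun x _ => ?_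
    by_cases hx : x ∈ center ↥(S : Subgroup G) <;> simp [hx, mul_comm]
  -- the character of degree 4
  have hθsum : (θ a : ℂ) + (θ (σ a) : ℂ) + (θ (σ (σ a)) : ℂ) = -4 := by
    have h := sum_hfun_center D T hθ
    rw [he, Finset.sum_insert (by simp [ha1.symm, hb1.symm, hc1.symm]),
      Finset.sum_insert (by simp [h01, h02]), Finset.sum_pair h12] at h
    simp only [hfun, hθ.one] at h
    have : (θ a : ℤ) + θ (σ a) + θ (σ (σ a)) = -4 := by linarith
    exact_mod_cast this
  have h2 : 64 * (g : ℂ) = -4 * U - 16 * A := by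
    have e : pair χ (hfun θ) = 64 * (g : ℂ) := by rw [hg]; push_cast; rfl
    rw [← e, pair, hcen]
    simp only [hfun, Int.cast_sub, Int.cast_ofNat, hA1, hA2, hθ.one, sub_self, mul_zero, zero_add]
    rw [hU, Finset.mul_sum, Finset.sum_congr rfl (g := fun x : ↥(S : Subgroup G) =>
      -4 * (χ : G → ℂ) x) fun x hx => by
        rw [hθ.off x (Finset.mem_filter.1 hx).2, Int.cast_zero]; ring, ← hA]
    linear_combination A * hθsum
  obtain ⟨m, hm⟩ := exists_classInner_nat
    (isCharacter_comp (S : Subgroup G).subtype (isCharacter_irr χ))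
    (isCharacter_one (G := ↥(S : Subgroup G)))
  rw [Cfsg.classInner, D.card, inv_mul_eq_iff_eq_mul₀ (by norm_num), hcen] at hm
  simp only [Function.comp_apply, coe_subtype, Pi.one_apply, map_one, mul_one, hA1, hA2,
    OneMemClass.coe_one, Nat.cast_ofNat] at hm
  rw [← hA, ← hU] at hm
  refine ⟨?_, m, ?_⟩
  · push_cast at h1 h2 ⊢
    linear_combination (1 / 64 : ℂ) * h1 * (-1) + (1 / 16 : ℂ) * h2
  · push_cast at h1 h2 ⊢
    linear_combination hm - (1 / 64 : ℂ) * h1 - (3 / 16 : ℂ) * h2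

include hM in
/-- The data for the final argument. -/
theorem exists_config (T : Twist σ) {a : ↥(S : Subgroup G)}
    (ha : a ∈ center ↥(S : Subgroup G)) (ha1 : a ≠ 1) :
    ∃ (b : Fin 5 → Cfsg.IrrCharacter G → ℤ) (γ : Cfsg.IrrCharacter G → ℤ),
      let s := (blk G M).erase (oneChar G)
      (∀ i j, ∑ χ ∈ s, b i χ * b j χ = if i = j then 3 else 2) ∧
      (∀ i, ∑ χ ∈ s, γ χ * b i χ = 8) ∧ (∑ χ ∈ s, γ χ * γ χ = 33) ∧
      (∀ χ : Cfsg.IrrCharacter G, (χ : G → ℂ) (a : G) = ((3 * ∑ j, b j χ - 4 * γ χ : ℤ) : ℂ) ∧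
        ∃ m : ℤ, (χ : G → ℂ) 1 = ((64 * m + 3 * ∑ j, b j χ + 12 * γ χ : ℤ) : ℂ)) ∧
      ∑ χ ∈ s, (b 0 χ : ℂ) * (χ : G → ℂ) (a : G) ^ 2 / (χ : G → ℂ) 1 = 1 := by
  haveI := hM.2.1
  obtain ⟨R, hR, hinj, hsurj⟩ := exists_reps D T
  obtain ⟨θ, hθ1, hθ2, hθ3, hθ4, hθ5⟩ := Theta.exists_theta D T
  have hθ : Table θ := ⟨hθ1, hθ2, hθ3, hθ4, hθ5⟩
  choose b hb using fun (χ : Cfsg.IrrCharacter G) (j : Fin 5) => exists_int_off D χ (R j)
  choose γ hγ using fun χ : Cfsg.IrrCharacter G => exists_int_hfun D hθ χ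
  have hb1 : ∀ j, b (oneChar G) j = -1 := fun j => by
    have h := hb (oneChar G) j
    simp only [pair, oneChar_apply, one_mul, ← Int.cast_sum, sum_off D (hR j), Int.cast_inj] at h
    omega
  have hg1 : γ (oneChar G) = -4 := by
    have h := hγ (oneChar G)
    simp only [pair, oneChar_apply, one_mul, ← Int.cast_sum, Int.cast_inj] at h
    have hs : ∑ x, hfun θ x = -256 := by
      simp only [hfun, Finset.sum_sub_distrib, hθ.sum, Finset.sum_const, Finset.card_univ,
        ← Nat.card_eq_fintype_card, D.card]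
      norm_num
    omega
  have hone : oneChar G ∈ blk G M :=
    (mem_blk M).2 Blocks.oneChar_mem_principalBlock
  have hpair : ∀ (u w : Cfsg.IrrCharacter G → ℤ) (F F' : ↥(S : Subgroup G) → ℤ), F 1 = 0 →
      F' 1 = 0 → (∀ t x, F' (t * x * t⁻¹) = F' x) → (∀ χ, pair χ F = (64 * u χ : ℤ)) →
      (∀ χ, pair χ F' = (64 * w χ : ℤ)) →
      64 * ∑ χ ∈ (blk G M).erase (oneChar G), u χ * w χ =
        (∑ i : Fin 3, ∑ x, F x * F' (rot σ i x)) - 64 * (u (oneChar G) * w (oneChar G)) := by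
    intro u w F F' hF hF' hcl hu hw
    have h := sum_pair_mul D M hM T hF hF' hcl
    simp only [hu, hw, map_intCast, ← Int.cast_mul, ← Int.cast_sum, Int.cast_inj] at h
    rw [← Finset.sum_erase_add _ _ hone, Finset.sum_congr rfl fun χ _ =>
      show 64 * u χ * (64 * w χ) = 4096 * (u χ * w χ) by ring, ← Finset.mul_sum] at h
    linarith
  have hoff1 : ∀ j, off (R j) 1 = 0 := fun j => off_center D _ (one_mem _)
  have hh1 : hfun θ 1 = 0 := by simp [hfun, hθ.one]
  refine ⟨fun j χ => b χ j, γ, ?_, ?_, ?_, fun χ => ?_, ?_⟩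
  · intro i j
    have h := hpair (fun χ => b χ i) (fun χ => b χ j) _ _ (hoff1 i) (hoff1 j) (off_conj D (R j))
      (fun χ => hb χ i) (fun χ => hb χ j)
    simp only [hb1, sum_off_rot D T hR hinj] at h ⊢
    split_ifs at h ⊢ <;> omega
  · intro i
    have h := hpair γ (fun χ => b χ i) _ _ hh1 (hoff1 i) (off_conj D (R i)) hγ (fun χ => hb χ i)
    simp only [hb1, hg1, sum_hfun_off D T hθ (hR i)] at h ⊢
    omega
  · have h := hpair γ γ _ _ hh1 hh1 (hfun_conj D hθ) hγ hγ
    simp only [hg1, sum_hfun_hfun D T hθ] at h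
    omega
  · exact values D T hθ hR hinj hsurj ha ha1 χ (fun j => hb χ j) (hγ χ)
  · have h := sum_count_pair D M hM (F := off (R 0)) (fun z hz => off_center D _ hz) (v := (a : G))
      (congrArg Subtype.val (D.center_sq a ha))
    simp only [hb] at h
    rw [← Finset.sum_erase_add _ _ hone, hb1] at h
    simp only [oneChar_apply] at h
    push_cast at h
    rw [Finset.sum_congr rfl fun χ _ => show (64 : ℂ) * (b χ 0 : ℂ) * (χ : G → ℂ) a ^ 2 /
      (χ : G → ℂ) 1 = 64 * ((b χ 0 : ℂ) * (χ : G → ℂ) a ^ 2 / (χ : G → ℂ) 1) by ring,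
      ← Finset.mul_sum] at h
    linear_combination (1 / 64 : ℂ) * h

end Cfsg.Agent.Lib.U34Type98.Chars
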