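import Cfsg.Agent.Lib.U34Type98.Local
import Cfsg.Agent.Lib.Induced.Character
import Mathlib.GroupTheory.FiniteAbelian.Duality
import Mathlib.RingTheory.RootsOfUnity.AlgebraicallyClosed

/-!
# The linear characters of a Sylow 2-subgroup of type `U₃(4)`

There are 15 non-trivial ones, with values `±1`, falling into five orbits under the twist.
-/

set_option autoImplicit false
set_option linter.style.haveILetI false
set_option linter.unusedSectionVars false

namespace Cfsg.Agent.Lib.U34Type98.Linear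

open Subgroup

universe u

attribute [local instance] Classical.propDecidable

variable {G : Type u} [Group G] [Finite G] {S : Sylow 2 G}

/-- The linear characters. -/
abbrev Lin (S : Sylow 2 G) := ↥(S : Subgroup G) →* ℂˣ

/-- The values of `ψ - 1`. -/
noncomputable def off (ψ : Lin S) (x : ↥(S : Subgroup G)) : ℤ := if ψ x = 1 then 0 else -2

variable (D : Data S)
include D

theorem lin_center (ψ : Lin S) {z : ↥(S : Subgroup G)} (hz : z ∈ center ↥(S : Subgroup G)) :
    ψ z = 1 :=
  MonoidHom.mem_ker.1 (Abelianization.commutator_subset_ker ψ (D.comm ▸ hz))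

theorem lin_sq (ψ : Lin S) (x : ↥(S : Subgroup G)) : ψ x * ψ x = 1 := by
  rw [← map_mul]
  exact lin_center D ψ (D.sq x)

theorem lin_inv (ψ : Lin S) : ψ⁻¹ = ψ :=
  MonoidHom.ext fun x => by rw [MonoidHom.inv_apply]; exact inv_eq_of_mul_eq_one_right (lin_sq D ψ x)

theorem cast_off (ψ : Lin S) (x : ↥(S : Subgroup G)) : (off ψ x : ℂ) = (ψ x : ℂ) - 1 := by
  unfold off
  split_ifs with h
  · simp [h]
  · have h2 : ((ψ x : ℂ)) * (ψ x : ℂ) = 1 := by rw [← Units.val_mul, lin_sq D ψ x, Units.val_one]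
    rcases mul_self_eq_one_iff.1 h2 with h1 | h1
    · exact absurd (Units.ext h1) h
    · rw [h1]; push_cast; ring

theorem off_center (ψ : Lin S) {z : ↥(S : Subgroup G)} (hz : z ∈ center ↥(S : Subgroup G)) :
    off ψ z = 0 := if_pos (lin_center D ψ hz)

omit D in
theorem sum_lin [Fintype ↥(S : Subgroup G)] {ψ : Lin S} (hψ : ψ ≠ 1) :
    ∑ x, (ψ x : ℂ) = 0 := by
  obtain ⟨a, ha⟩ : ∃ a, ψ a ≠ 1 := by
    by_contra h
    push Not at h
    exact hψ (MonoidHom.ext h)
  have hs : (ψ a : ℂ) * ∑ x, (ψ x : ℂ) = ∑ x, (ψ x : ℂ) := by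
    rw [Finset.mul_sum]
    exact Fintype.sum_equiv (Equiv.mulLeft a) _ _ fun x => by simp
  by_contra h
  exact ha (Units.ext (mul_left_eq_self₀.1 hs |>.resolve_right h))

theorem sum_off [Fintype ↥(S : Subgroup G)] {ψ : Lin S} (hψ : ψ ≠ 1) :
    ∑ x, off ψ x = -64 := by
  rw [← Int.cast_inj (α := ℂ), Int.cast_sum]
  simp only [cast_off D, Finset.sum_sub_distrib, sum_lin hψ, Finset.sum_const, Finset.card_univ,
    ← Nat.card_eq_fintype_card, D.card]
  simp

theorem sum_off_mul [Fintype ↥(S : Subgroup G)] {ψ φ : Lin S} (hψ : ψ ≠ 1) (hφ : φ ≠ 1) :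
    ∑ x, off ψ x * off φ x = if ψ = φ then 128 else 64 := by
  rw [← Int.cast_inj (α := ℂ), Int.cast_sum]
  have h : ∀ x, ((off ψ x * off φ x : ℤ) : ℂ) =
      ((ψ * φ) x : ℂ) - (ψ x : ℂ) - (φ x : ℂ) + 1 := fun x => by
    rw [Int.cast_mul, cast_off D, cast_off D, MonoidHom.mul_apply, Units.val_mul]
    ring
  simp only [h, Finset.sum_add_distrib, Finset.sum_sub_distrib, sum_lin hψ, sum_lin hφ,
    Finset.sum_const, Finset.card_univ, ← Nat.card_eq_fintype_card, D.card]
  split_ifs with he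
  · subst he
    have h1 : ψ * ψ = 1 := MonoidHom.ext (lin_sq D ψ)
    simp only [h1, MonoidHom.one_apply, Units.val_one, Finset.sum_const, Finset.card_univ,
      ← Nat.card_eq_fintype_card, D.card]
    norm_num
  · have h1 : ψ * φ ≠ 1 := fun h1 => he (MonoidHom.ext fun x => by
      have h : ψ x * φ x = 1 := DFunLike.congr_fun h1 x
      rw [← inv_eq_of_mul_eq_one_right h, inv_eq_of_mul_eq_one_right (lin_sq D ψ x)])
    rw [sum_lin h1]
    norm_num

theorem lin_abel : Nat.card (Lin S) = 16 ∧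
    ∀ x : ↥(S : Subgroup G), x ∉ center ↥(S : Subgroup G) → ∃ ψ : Lin S, ψ x ≠ 1 := by
  haveI : Finite (Abelianization ↥(S : Subgroup G)) := Quotient.finite _
  haveI : NeZero (Monoid.exponent (Abelianization ↥(S : Subgroup G))) :=
    ⟨Monoid.exponent_ne_zero_of_finite⟩
  obtain ⟨e⟩ := CommGroup.monoidHom_mulEquiv_of_hasEnoughRootsOfUnity
    (Abelianization ↥(S : Subgroup G)) ℂ
  refine ⟨?_, fun x hx => ?_⟩
  · rw [Nat.card_congr (Abelianization.lift.trans e.toEquiv)]
    have h := (_root_.commutator ↥(S : Subgroup G)).card_mul_index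
    rw [D.comm, D.card_center, D.card, index_eq_card, ← D.comm] at h
    show Nat.card (↥(S : Subgroup G) ⧸ _root_.commutator ↥(S : Subgroup G)) = 16
    omega
  · have hne : Abelianization.of x ≠ 1 := fun h => hx (by
      rw [← D.comm, ← Abelianization.ker_of, MonoidHom.mem_ker]; exact h)
    obtain ⟨φ, hφ⟩ := CommGroup.exists_apply_ne_one_of_hasEnoughRootsOfUnity
      (Abelianization ↥(S : Subgroup G)) ℂ hne
    exact ⟨φ.comp Abelianization.of, hφ⟩

variable {σ : ↥(S : Subgroup G) ≃* ↥(S : Subgroup G)}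

omit D in
/-- The iterates as automorphisms. -/
def rot (σ : ↥(S : Subgroup G) ≃* ↥(S : Subgroup G)) (i : Fin 3) :
    ↥(S : Subgroup G) ≃* ↥(S : Subgroup G) :=
  match i with
  | 0 => MulEquiv.refl _
  | 1 => σ
  | 2 => σ.trans σ

omit D in
theorem rot_apply (σ : ↥(S : Subgroup G) ≃* ↥(S : Subgroup G)) (i : Fin 3)
    (x : ↥(S : Subgroup G)) : rot σ i x = σ^[i] x := by
  match i with
  | 0 => rfl
  | 1 => rfl
  | 2 => rfl

omit D in
theorem rot_rot (T : Twist σ) (i j : Fin 3) (x : ↥(S : Subgroup G)) :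
    rot σ i (rot σ j x) = rot σ (i + j) x := by
  match i, j with
  | 0, 0 => rfl
  | 0, 1 => rfl
  | 0, 2 => rfl
  | 1, 0 => rfl
  | 1, 1 => rfl
  | 1, 2 => exact T.cube x
  | 2, 0 => rfl
  | 2, 1 => exact T.cube x
  | 2, 2 => exact congrArg σ (T.cube x)

omit D in
theorem rot_fpf (T : Twist σ) {i : Fin 3} (hi : i ≠ 0) {x : ↥(S : Subgroup G)}
    (h : rot σ i x = x) : x = 1 := by
  match i, hi, h with
  | 0, hi, _ => exact absurd rfl hi
  | 1, _, h => exact T.fpf x h
  | 2, _, h => exact T.fpf_sq h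

omit D in
/-- The action on linear characters. -/
def act (σ : ↥(S : Subgroup G) ≃* ↥(S : Subgroup G)) (i : Fin 3) (ψ : Lin S) : Lin S :=
  ψ.comp (rot σ i).toMonoidHom

omit D in
theorem act_apply (i : Fin 3) (ψ : Lin S) (x : ↥(S : Subgroup G)) :
    act σ i ψ x = ψ (rot σ i x) := rfl

omit D in
theorem act_act (T : Twist σ) (i j : Fin 3) (ψ : Lin S) :
    act σ i (act σ j ψ) = act σ (j + i) ψ :=
  MonoidHom.ext fun x => by rw [act_apply, act_apply, act_apply, rot_rot T]

omit D in
theorem act_ne_one (i : Fin 3) {ψ : Lin S} (hψ : ψ ≠ 1) : act σ i ψ ≠ 1 := fun h =>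
  hψ (MonoidHom.ext fun x => by
    obtain ⟨y, rfl⟩ := (rot σ i).surjective x
    exact DFunLike.congr_fun h y)

omit D in
theorem act_free (T : Twist σ) {i : Fin 3} {ψ : Lin S} (hψ : ψ ≠ 1) (h : act σ i ψ = ψ) :
    i = 0 := by
  by_contra hi
  refine hψ (MonoidHom.ext fun t => ?_)
  have hinj : Function.Injective fun y : ↥(S : Subgroup G) => y⁻¹ * rot σ i y := by
    intro y y' h'
    refine (mul_inv_eq_one.1 (rot_fpf T hi (x := y' * y⁻¹) ?_)).symm
    calc rot σ i (y' * y⁻¹) = y' * (y'⁻¹ * rot σ i y') * (rot σ i y)⁻¹ := by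
          rw [map_mul, map_inv]; group
      _ = _ := by rw [← show y⁻¹ * rot σ i y = y'⁻¹ * rot σ i y' from h']; group
  obtain ⟨y, rfl⟩ := Finite.injective_iff_surjective.1 hinj t
  show ψ (y⁻¹ * rot σ i y) = 1
  rw [map_mul, map_inv, ← act_apply, h, inv_mul_cancel]

/-- Representatives of the five orbits. -/
theorem exists_reps (T : Twist σ) : ∃ R : Fin 5 → Lin S, (∀ j, R j ≠ 1) ∧
    Function.Injective (fun p : Fin 5 × Fin 3 => act σ p.2 (R p.1)) ∧
    ∀ ψ, ψ ≠ 1 → ∃ p : Fin 5 × Fin 3, act σ p.2 (R p.1) = ψ := by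
  haveI : Finite (Lin S) := Nat.finite_of_card_ne_zero (by rw [(lin_abel D).1]; norm_num)
  letI := Fintype.ofFinite (Lin S)
  set N := (Finset.univ : Finset (Lin S)).erase 1
  have hN : N.card = 15 := by
    rw [Finset.card_erase_of_mem (Finset.mem_univ _), Finset.card_univ, ← Nat.card_eq_fintype_card,
      (lin_abel D).1]
  have key : ∀ k : ℕ, k ≤ 5 → ∃ R : Fin k → Lin S, (∀ j, R j ≠ 1) ∧
      Function.Injective (fun p : Fin k × Fin 3 => act σ p.2 (R p.1)) := by
    intro k
    induction k with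
    | zero => exact fun _ => ⟨Fin.elim0, fun j => j.elim0, fun p => p.1.elim0⟩
    | succ k ih =>
      intro hk
      obtain ⟨R, hR, hinj⟩ := ih (by omega)
      set U := Finset.univ.image fun p : Fin k × Fin 3 => act σ p.2 (R p.1)
      have hU : U.card < N.card := by
        refine lt_of_le_of_lt Finset.card_image_le ?_
        rw [hN, Finset.card_univ, Fintype.card_prod, Fintype.card_fin, Fintype.card_fin]
        omega
      obtain ⟨ψ, hψN, hψU⟩ := Finset.exists_mem_notMem_of_card_lt_card hU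
      have hψ1 : ψ ≠ 1 := Finset.ne_of_mem_erase hψN
      refine ⟨Fin.snoc R ψ, fun j => ?_, ?_⟩
      · refine Fin.lastCases ?_ (fun j => ?_) j
        · simpa using hψ1
        · simpa using hR j
      · have hout : ∀ (p : Fin k × Fin 3) (i : Fin 3), act σ p.2 (R p.1) ≠ act σ i ψ := by
          intro p i h
          refine hψU (Finset.mem_image.2 ⟨(p.1, p.2 + -i), Finset.mem_univ _, ?_⟩)
          show act σ (p.2 + -i) (R p.1) = ψ
          rw [← act_act T, h, act_act T, add_neg_cancel]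
          rfl
        rintro ⟨a, i⟩ ⟨b, i'⟩ h
        induction a using Fin.lastCases with
        | last =>
          induction b using Fin.lastCases with
          | last =>
            simp only [Fin.snoc_last] at h
            have h2 := congrArg (act σ (-i')) h
            rw [act_act T, act_act T, add_neg_cancel] at h2
            have := act_free T hψ1 (h2.trans rfl)
            rw [add_neg_eq_zero.1 this]
          | cast b =>
            simp only [Fin.snoc_last, Fin.snoc_castSucc] at h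
            exact absurd h.symm (hout (b, i') i)
        | cast a =>
          induction b using Fin.lastCases with
          | last =>
            simp only [Fin.snoc_last, Fin.snoc_castSucc] at h
            exact absurd h (hout (a, i) i')
          | cast b =>
            simp only [Fin.snoc_castSucc] at h
            have := hinj (a₁ := (a, i)) (a₂ := (b, i')) h
            simp only [Prod.mk.injEq] at this ⊢
            exact ⟨congrArg Fin.castSucc this.1, this.2⟩
  obtain ⟨R, hR, hinj⟩ := key 5 le_rfl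
  refine ⟨R, hR, hinj, fun ψ hψ => ?_⟩
  have himg : (Finset.univ.image fun p : Fin 5 × Fin 3 => act σ p.2 (R p.1)) = N := by
    refine Finset.eq_of_subset_of_card_le (fun ψ hψ => ?_) ?_
    · obtain ⟨p, -, rfl⟩ := Finset.mem_image.1 hψ
      exact Finset.mem_erase.2 ⟨act_ne_one _ (hR _), Finset.mem_univ _⟩
    · rw [Finset.card_image_of_injective _ hinj, hN, Finset.card_univ, Fintype.card_prod,
        Fintype.card_fin, Fintype.card_fin]
  obtain ⟨p, -, hp⟩ := Finset.mem_image.1 (himg.ge (Finset.mem_erase.2 ⟨hψ, Finset.mem_univ ψ⟩))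
  exact ⟨p, hp⟩

theorem sum_off_all (T : Twist σ) {R : Fin 5 → Lin S} (hR : ∀ j, R j ≠ 1)
    (hinj : Function.Injective (fun p : Fin 5 × Fin 3 => act σ p.2 (R p.1)))
    (hsurj : ∀ ψ, ψ ≠ 1 → ∃ p : Fin 5 × Fin 3, act σ p.2 (R p.1) = ψ)
    (x : ↥(S : Subgroup G)) :
    ∑ p : Fin 5 × Fin 3, off (act σ p.2 (R p.1)) x =
      if x ∈ center ↥(S : Subgroup G) then 0 else -16 := by
  split_ifs with hx
  · exact Finset.sum_eq_zero fun p _ => off_center D _ hx
  haveI : Finite (Lin S) := Nat.finite_of_card_ne_zero (by rw [(lin_abel D).1]; norm_num)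
  letI := Fintype.ofFinite (Lin S)
  have himg : (Finset.univ.image fun p : Fin 5 × Fin 3 => act σ p.2 (R p.1)) =
      Finset.univ.erase 1 := by
    ext ψ
    simp only [Finset.mem_image, Finset.mem_univ, true_and, Finset.mem_erase, and_true]
    exact ⟨fun ⟨p, hp⟩ => hp ▸ act_ne_one _ (hR _), hsurj ψ⟩
  rw [← Finset.sum_image (f := fun ψ => off ψ x) fun a _ b _ h => hinj h, himg,
    Finset.sum_erase_eq_sub (Finset.mem_univ _), show off (1 : Lin S) x = 0 from if_pos rfl,
    sub_zero, ← Int.cast_inj (α := ℂ), Int.cast_sum]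
  simp only [cast_off D, Finset.sum_sub_distrib, Finset.sum_const, Finset.card_univ,
    ← Nat.card_eq_fintype_card, (lin_abel D).1]
  obtain ⟨φ, hφ⟩ := (lin_abel D).2 x hx
  have hs : (φ x : ℂ) * ∑ ψ : Lin S, (ψ x : ℂ) = ∑ ψ : Lin S, (ψ x : ℂ) := by
    rw [Finset.mul_sum]
    exact Fintype.sum_equiv (Equiv.mulLeft φ) _ _ fun ψ => by simp
  rw [show ∑ ψ : Lin S, (ψ x : ℂ) = 0 from by
    by_contra h
    exact hφ (Units.ext (mul_left_eq_self₀.1 hs |>.resolve_right h))]
  norm_num

end Cfsg.Agent.Lib.U34Type98.Linear
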