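import Cfsg.Agent.Lib.CNilp98.Basic

/-!
# Fusion in a Sylow 2-subgroup of type `U₃(4)`

If all centralisers of involutions have normal 2-complements, an element of `N(S)` induces an
automorphism `σ` of order 3 without fixed points and all fusion is induced by `S` and `σ`.
-/

set_option autoImplicit false
set_option linter.style.haveILetI false
set_option linter.unusedSectionVars false

namespace Cfsg.Agent.Lib.U34Type98

open Subgroup Cfsg.Agent.Lib.CNilp98

universe u

variable {G : Type u} [Group G] [Finite G]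

/-- The hypotheses on the Sylow subgroup. -/
structure Data (S : Sylow 2 G) : Prop where
  nilp : InvCentNilp G
  card : Nat.card ↥(S : Subgroup G) = 64
  card_center : Nat.card ↥(center ↥(S : Subgroup G)) = 4
  comm : _root_.commutator ↥(S : Subgroup G) = center ↥(S : Subgroup G)
  center_sq : ∀ z ∈ center ↥(S : Subgroup G), z * z = 1
  sq : ∀ x : ↥(S : Subgroup G), x * x ∈ center ↥(S : Subgroup G)
  invol : ∀ x : ↥(S : Subgroup G), x * x = 1 → x ∈ center ↥(S : Subgroup G)

variable {S : Sylow 2 G}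

/-- The commutator pairing. -/
def cm (x t : ↥(S : Subgroup G)) : ↥(S : Subgroup G) := x * t * x⁻¹ * t⁻¹

theorem cm_eq_one_iff {x t : ↥(S : Subgroup G)} : cm x t = 1 ↔ x * t = t * x := by
  rw [cm, mul_inv_eq_one, mul_inv_eq_iff_eq_mul]

/-- The involution attached to a non-identity element. -/
def inv2 [DecidableEq G] (x : G) : G := if x * x = 1 then x else x * x

theorem inv2_conj [DecidableEq G] (g x : G) : inv2 (g * x * g⁻¹) = g * inv2 x * g⁻¹ := by
  have h : g * x * g⁻¹ * (g * x * g⁻¹) = g * (x * x) * g⁻¹ := by group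
  unfold inv2
  by_cases hx : x * x = 1
  · rw [if_pos hx, if_pos (by rw [h, hx]; group)]
  · rw [if_neg hx, if_neg, h]
    rw [h, conj_eq_one_iff]
    exact hx

theorem commute_inv2 [DecidableEq G] {c x : G} (h : c * x = x * c) :
    c * inv2 x = inv2 x * c := by
  unfold inv2
  split_ifs
  · exact h
  · exact (show Commute c x from h).mul_right h

namespace Data

variable (D : Data S)
include D

theorem cm_mem (x t : ↥(S : Subgroup G)) : cm x t ∈ center ↥(S : Subgroup G) := by
  rw [← D.comm, commutator_def]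
  exact commutator_mem_commutator (mem_top x) (mem_top t)

theorem cm_mul (x y t : ↥(S : Subgroup G)) : cm (x * y) t = cm y t * cm x t := by
  have h : cm y t * x = x * cm y t := (mem_center_iff.1 (D.cm_mem y t) x).symm
  calc cm (x * y) t = x * cm y t * t * x⁻¹ * t⁻¹ := by simp only [cm]; group
    _ = cm y t * x * t * x⁻¹ * t⁻¹ := by rw [h]
    _ = _ := by simp only [cm]; group

theorem cm_center {z : ↥(S : Subgroup G)} (hz : z ∈ center ↥(S : Subgroup G))
    (t : ↥(S : Subgroup G)) : cm z t = 1 := cm_eq_one_iff.2 (mem_center_iff.1 hz t).symm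

theorem inv2_spec [DecidableEq G] {x : ↥(S : Subgroup G)} (hx : x ≠ 1) :
    ∃ v ∈ center ↥(S : Subgroup G), v ≠ 1 ∧ (v : G) = inv2 (x : G) ∧ orderOf (v : G) = 2 := by
  haveI : Fact (Nat.Prime 2) := ⟨Nat.prime_two⟩
  have key : ∀ v ∈ center ↥(S : Subgroup G), v ≠ 1 → orderOf (v : G) = 2 := fun v hv hv1 => by
    rw [Subgroup.orderOf_coe]
    exact orderOf_eq_prime (by rw [pow_two]; exact D.center_sq v hv) hv1
  by_cases h : x * x = 1
  · refine ⟨x, D.invol x h, hx, ?_, key x (D.invol x h) hx⟩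
    rw [inv2, if_pos (by exact_mod_cast congrArg Subtype.val h)]
  · refine ⟨x * x, D.sq x, h, ?_, key _ (D.sq x) h⟩
    rw [inv2, if_neg fun h' => h (Subtype.ext (by simpa using h'))]
    rfl

/-- A conjugation fixing the involution of `x` acts on `x` like an element of `S`. -/
theorem conj_of_fixed [DecidableEq G] {x y : ↥(S : Subgroup G)} (hx : x ≠ 1) {c : G}
    (hc : c * inv2 (x : G) = inv2 (x : G) * c) (hy : c * (x : G) * c⁻¹ = y) :
    ∃ t : ↥(S : Subgroup G), t * x * t⁻¹ = y := by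
  obtain ⟨v, hv, -, hvx, hvo⟩ := D.inv2_spec hx
  obtain ⟨t, ht, htx⟩ := exists_conj_in_sylow (S := S) D.nilp hvo
    (fun s hs => congrArg Subtype.val (mem_center_iff.1 hv ⟨s, hs⟩)) (c := c) (s := (x : G))
    (mem_centralizer_singleton_iff.2 (by rw [hvx]; exact hc)) x.2 (hy ▸ y.2)
  exact ⟨⟨t, ht⟩, Subtype.ext (by rw [← hy, htx]; rfl)⟩

/-- Some odd element of `N(S)` moves a central involution. -/
theorem exists_moving [IsSimpleGroup G] (hG : ¬ IsMulCommutative G) :
    ∃ n ∈ normalizer ((S : Subgroup G) : Set G), Odd (orderOf n) ∧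
      ∃ v ∈ center ↥(S : Subgroup G), v ≠ 1 ∧ n * (v : G) * n⁻¹ ≠ v := by
  classical
  haveI : Fact (Nat.Prime 2) := ⟨Nat.prime_two⟩
  obtain ⟨n, hnN, v, hv, hv1, hmove⟩ : ∃ n ∈ normalizer ((S : Subgroup G) : Set G),
      ∃ v ∈ center ↥(S : Subgroup G), v ≠ 1 ∧ n * (v : G) * n⁻¹ ≠ v := by
    by_contra hall
    push Not at hall
    -- then all quotients of fused elements lie in the centre
    have hsub := le_of_fusion_quotients (S := S) hG
      (T := (center ↥(S : Subgroup G)).map (S : Subgroup G).subtype) (by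
      intro x hx g hgx
      rcases eq_or_ne x 1 with rfl | hx1
      · simp
      obtain ⟨v, hv, hv1, hvx, hvo⟩ := D.inv2_spec (x := ⟨x, hx⟩)
        fun h => hx1 (congrArg Subtype.val h)
      obtain ⟨w, hw, -, hwx, -⟩ := D.inv2_spec (x := ⟨g * x * g⁻¹, hgx⟩)
        fun h => hx1 (conj_eq_one_iff.1 (congrArg Subtype.val h))
      have hgv : g * (v : G) * g⁻¹ = w := by rw [hvx, hwx, inv2_conj]
      have hcen : ∀ {z : ↥(S : Subgroup G)}, z ∈ center ↥(S : Subgroup G) →
          (z : G) ∈ centralizer ((S : Subgroup G) : Set G) := fun hz =>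
        mem_centralizer_iff.2 fun s hs => congrArg Subtype.val (mem_center_iff.1 hz ⟨s, hs⟩)
      obtain ⟨n, hn, hnv⟩ := S.conj_eq_normalizer_conj_of_mem_centralizer (v : G) g⁻¹ (hcen hv)
        (by rw [inv_inv, hgv]; exact hcen hw)
      rw [inv_inv, hgv] at hnv
      have hfix : g * (v : G) * g⁻¹ = v := by
        have := hall n⁻¹ (inv_mem hn) v hv hv1
        rw [inv_inv, ← hnv] at this
        rw [hgv, this]
      obtain ⟨t, ht⟩ := D.conj_of_fixed (x := ⟨x, hx⟩) (y := ⟨g * x * g⁻¹, hgx⟩)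
        (fun h => hx1 (congrArg Subtype.val h)) (c := g)
        (by rw [← hvx]; exact mul_inv_eq_iff_eq_mul.1 hfix) rfl
      refine ⟨cm ⟨x, hx⟩ t, D.cm_mem _ _, ?_⟩
      have he : g * x * g⁻¹ = (t : G) * x * (t : G)⁻¹ := (congrArg Subtype.val ht).symm
      rw [he]
      simp [cm, mul_assoc])
    have htop : center ↥(S : Subgroup G) = ⊤ := by
      refine eq_top_iff.2 fun x _ => ?_
      obtain ⟨y, hy, hyx⟩ := hsub x.2
      rwa [← Subtype.ext (a1 := y) (a2 := x) hyx]
    have h4 := D.card_center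
    rw [htop, Subgroup.card_top, D.card] at h4
    omega
  obtain ⟨k, m, hm, hnm⟩ := Nat.exists_eq_two_pow_mul_odd (orderOf_pos n).ne'
  refine ⟨n ^ 2 ^ k, pow_mem hnN _, ?_, v, hv, hv1, fun hfix => hmove ?_⟩
  · rw [orderOf_pow' n (pow_ne_zero _ two_ne_zero), hnm, Nat.gcd_eq_right (dvd_mul_right _ _),
      Nat.mul_div_cancel_left _ (Nat.two_pow_pos k)]
    exact hm
  · set N := normalizer ((S : Subgroup G) : Set G)
    have hSN : (S : Subgroup G) ≤ N := le_normalizer
    let SN : Sylow 2 ↥N := S.subtype hSN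
    haveI : (SN : Subgroup ↥N).Normal := normal_in_normalizer
    set j := (SN : Subgroup ↥N).index
    have hjS : n ^ j ∈ (S : Subgroup G) := by
      have := Subgroup.pow_index_mem (SN : Subgroup ↥N) ⟨n, hnN⟩
      exact this
    have hjodd : Nat.Coprime (2 ^ k) j :=
      Nat.Coprime.pow_left k (Nat.prime_two.coprime_iff_not_dvd.2 (Sylow.not_dvd_index SN))
    set C := centralizer ({(v : G)} : Set G)
    have h1 : n ^ 2 ^ k ∈ C := mem_centralizer_singleton_iff.2 (mul_inv_eq_iff_eq_mul.1 hfix)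
    have h2 : n ^ j ∈ C := mem_centralizer_singleton_iff.2
      (congrArg Subtype.val (mem_center_iff.1 hv ⟨_, hjS⟩))
    have h3 : n ∈ C := by
      have he : (n : G) = (n ^ 2 ^ k) ^ Nat.gcdA (2 ^ k) j * (n ^ j) ^ Nat.gcdB (2 ^ k) j := by
        rw [← zpow_natCast n (2 ^ k), ← zpow_natCast n j, ← zpow_mul, ← zpow_mul, ← zpow_add,
          ← Nat.gcd_eq_gcd_ab, hjodd.gcd_eq_one, Nat.cast_one, zpow_one]
      rw [he]
      exact mul_mem (zpow_mem h1 _) (zpow_mem h2 _)
    exact mul_inv_eq_iff_eq_mul.2 (mem_centralizer_singleton_iff.1 h3)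

end Data

/-- An automorphism of order 3 of `S` without fixed points inducing all fusion. -/
structure Twist (σ : ↥(S : Subgroup G) ≃* ↥(S : Subgroup G)) : Prop where
  cube : ∀ x : ↥(S : Subgroup G), σ (σ (σ x)) = x
  fpf : ∀ x : ↥(S : Subgroup G), σ x = x → x = 1
  isConj : ∀ x : ↥(S : Subgroup G), IsConj (x : G) (σ x : G)
  fusion : ∀ x y : ↥(S : Subgroup G), x ≠ 1 → IsConj (x : G) (y : G) →
    ∃ (i : Fin 3) (t : ↥(S : Subgroup G)), t * (σ^[i] x) * t⁻¹ = y

theorem exists_twist (D : Data S) [IsSimpleGroup G] (hG : ¬ IsMulCommutative G) :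
    ∃ σ : ↥(S : Subgroup G) ≃* ↥(S : Subgroup G), Twist σ := by
  classical
  obtain ⟨n, hn, hodd, a, ha, ha1, hmove⟩ := D.exists_moving hG
  let σ : ↥(S : Subgroup G) ≃* ↥(S : Subgroup G) :=
    { toFun := fun x => ⟨n * x * n⁻¹, (mem_normalizer_iff.1 hn _).1 x.2⟩
      invFun := fun x => ⟨n⁻¹ * x * n, by
        simpa using (mem_normalizer_iff.1 (inv_mem hn) _).1 x.2⟩
      left_inv := fun x => Subtype.ext (by group)
      right_inv := fun x => Subtype.ext (by group)
      map_mul' := fun x y => Subtype.ext (by simp [mul_assoc]) }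
  have hσ : ∀ x : ↥(S : Subgroup G), ((σ x : ↥(S : Subgroup G)) : G) = n * x * n⁻¹ := fun _ => rfl
  have hσc : ∀ z ∈ center ↥(S : Subgroup G), σ z ∈ center ↥(S : Subgroup G) := fun z hz => by
    rw [mem_center_iff]
    intro y
    obtain ⟨y, rfl⟩ := σ.surjective y
    rw [← map_mul, mem_center_iff.1 hz y, map_mul]
  set b := σ a with hb
  set c := σ b with hc
  have hba : b ≠ a := fun h => hmove (by rw [← hσ a, ← hb, h])
  have hca : c ≠ a := by
    intro h
    have hC : n * n ∈ centralizer ({(a : G)} : Set G) := mem_centralizer_singleton_iff.2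
      (mul_inv_eq_iff_eq_mul.1 (by
        have := congrArg Subtype.val h
        rw [hc, hσ, hb, hσ] at this
        simpa [mul_assoc] using this))
    obtain ⟨e, he⟩ := hodd
    have hn' : n = ((n * n) ^ e)⁻¹ := by
      rw [eq_inv_iff_mul_eq_one, ← pow_two, ← pow_mul, ← pow_succ', ← he, pow_orderOf_eq_one]
    refine hmove (mul_inv_eq_iff_eq_mul.2 (mem_centralizer_singleton_iff.1 ?_))
    rw [hn']
    exact inv_mem (pow_mem hC e)
  have hcb : c ≠ b := fun h => hba (σ.injective h)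
  have hb1 : b ≠ 1 := fun h => ha1 (σ.injective (h.trans (map_one σ).symm))
  have hc1 : c ≠ 1 := fun h => hb1 (σ.injective (h.trans (map_one σ).symm))
  have hmem : ∀ z ∈ center ↥(S : Subgroup G), z ≠ 1 → z = a ∨ z = b ∨ z = c := by
    intro z hz hz1
    by_contra hne
    push Not at hne
    have hsub : ({1, a, b, c, z} : Finset ↥(S : Subgroup G)) ⊆
        (Set.toFinite (center ↥(S : Subgroup G) : Set ↥(S : Subgroup G))).toFinset := by
      intro y hy
      simp only [Finset.mem_insert, Finset.mem_singleton] at hy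
      rw [Set.Finite.mem_toFinset]
      rcases hy with rfl | rfl | rfl | rfl | rfl
      exacts [one_mem _, ha, hσc a ha, hσc _ (hσc a ha), hz]
    have hle := Finset.card_le_card hsub
    rw [← Nat.card_eq_card_finite_toFinset] at hle
    have h4 : Nat.card ((center ↥(S : Subgroup G) : Set ↥(S : Subgroup G))) = 4 := D.card_center
    rw [h4, Finset.card_insert_of_notMem (by simp [ha1.symm, hb1.symm, hc1.symm, hz1.symm]),
      Finset.card_insert_of_notMem (by simp [hba.symm, hca.symm, hne.1.symm]),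
      Finset.card_insert_of_notMem (by simp [hcb.symm, hne.2.1.symm]),
      Finset.card_pair hne.2.2.symm] at hle
    omega
  have hca' : σ c = a := by
    rcases hmem (σ c) (hσc _ (hσc _ (hσc a ha)))
      (fun h => hc1 (σ.injective (h.trans (map_one σ).symm))) with h | h | h
    · exact h
    · exact absurd (σ.injective h) hca
    · exact absurd (σ.injective h) hcb
  have hcube : ∀ x, σ (σ (σ x)) = x := by
    intro x
    have hC : n ^ 3 ∈ centralizer ({(a : G)} : Set G) := mem_centralizer_singleton_iff.2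
      (mul_inv_eq_iff_eq_mul.1 (by
        have := congrArg Subtype.val hca'
        rw [hσ, hc, hσ, hb, hσ] at this
        simpa [pow_succ, mul_assoc] using this))
    have ho : orderOf (a : G) = 2 := by
      rw [Subgroup.orderOf_coe]
      exact orderOf_eq_prime (by rw [pow_two]; exact D.center_sq a ha) ha1
    have h := commute_of_odd_of_normalizer (S := S) D.nilp ho
      (fun s hs => congrArg Subtype.val (mem_center_iff.1 ha ⟨s, hs⟩))
      (hodd.of_dvd_nat (orderOf_pow_dvd 3)) (pow_mem hn 3) hC x.2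
    refine Subtype.ext ?_
    simp only [hσ]
    calc n * (n * (n * (x : G) * n⁻¹) * n⁻¹) * n⁻¹ = n ^ 3 * x * (n ^ 3)⁻¹ := by
          simp [pow_succ, mul_assoc]
      _ = x := by rw [h, mul_inv_cancel_right]
  have hfpf : ∀ x, σ x = x → x = 1 := by
    intro x hx
    by_contra hx1
    obtain ⟨v, hv, hv1, hvx, -⟩ := D.inv2_spec hx1
    have hfix : σ v = v := Subtype.ext (by
      rw [hσ, hvx, ← inv2_conj, ← hσ x, hx])
    rcases hmem v hv hv1 with rfl | rfl | rfl
    · exact hba hfix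
    · exact hcb hfix
    · exact hca (hfix.symm.trans hca')
  have hconj : ∀ (i : ℕ) (x : ↥(S : Subgroup G)),
      ((σ^[i] x : ↥(S : Subgroup G)) : G) = n ^ i * x * (n ^ i)⁻¹ := by
    intro i x
    induction i with
    | zero => simp
    | succ i ih => rw [Function.iterate_succ_apply', hσ, ih, pow_succ']; group
  refine ⟨σ, hcube, hfpf, fun x => isConj_iff.2 ⟨n, rfl⟩, fun x y hx hxy => ?_⟩
  obtain ⟨g, hg⟩ := isConj_iff.1 hxy
  have hy : y ≠ 1 := fun h => hx (Subtype.ext (conj_eq_one_iff.1 (by rw [hg, h]; rfl)))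
  obtain ⟨v, hv, hv1, hvx, -⟩ := D.inv2_spec hx
  obtain ⟨w, hw, hw1, hwy, -⟩ := D.inv2_spec hy
  have hgv : g * (v : G) * g⁻¹ = w := by rw [hvx, hwy, ← inv2_conj, hg]
  obtain ⟨i, hi⟩ : ∃ i : Fin 3, σ^[i] v = w := by
    rcases hmem v hv hv1 with h | h | h <;> rcases hmem w hw hw1 with h' | h' | h' <;> rw [h, h']
    exacts [⟨0, rfl⟩, ⟨1, rfl⟩, ⟨2, rfl⟩, ⟨2, by show σ (σ b) = a; rw [← hc, hca']⟩,
      ⟨0, rfl⟩, ⟨1, rfl⟩, ⟨1, hca'⟩, ⟨2, by show σ (σ c) = b; rw [hca']⟩, ⟨0, rfl⟩]
  set x' := σ^[i] x with hx'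
  have hx'1 : x' ≠ 1 := fun h => hx (Subtype.ext (conj_eq_one_iff.1 (by rw [← hconj, ← hx', h]; rfl)))
  have hx'v : inv2 (x' : G) = (w : G) := by
    rw [hx', hconj, inv2_conj, ← hvx, ← hconj, hi]
  obtain ⟨t, ht⟩ := D.conj_of_fixed (x := x') (y := y) hx'1 (c := g * (n ^ (i : ℕ))⁻¹)
    (by
      rw [hx'v]
      refine mul_inv_eq_iff_eq_mul.1 ?_
      rw [← hi, hconj]
      calc g * (n ^ (i : ℕ))⁻¹ * (n ^ (i : ℕ) * v * (n ^ (i : ℕ))⁻¹) * (g * (n ^ (i : ℕ))⁻¹)⁻¹
          = g * v * g⁻¹ := by group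
        _ = _ := by rw [hgv, ← hi, hconj])
    (by
      rw [hx', hconj]
      calc g * (n ^ (i : ℕ))⁻¹ * (n ^ (i : ℕ) * x * (n ^ (i : ℕ))⁻¹) * (g * (n ^ (i : ℕ))⁻¹)⁻¹
          = g * x * g⁻¹ := by group
        _ = _ := hg)
  exact ⟨i, t, ht⟩

namespace Twist

variable {σ : ↥(S : Subgroup G) ≃* ↥(S : Subgroup G)}

theorem map_center (σ : ↥(S : Subgroup G) ≃* ↥(S : Subgroup G)) {z : ↥(S : Subgroup G)}
    (hz : z ∈ center ↥(S : Subgroup G)) : σ z ∈ center ↥(S : Subgroup G) := by
  rw [mem_center_iff]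
  intro y
  obtain ⟨y, rfl⟩ := σ.surjective y
  rw [← map_mul, mem_center_iff.1 hz y, map_mul]

theorem fpf_sq (T : Twist σ) {x : ↥(S : Subgroup G)} (h : σ (σ x) = x) : x = 1 :=
  T.fpf x (by conv_rhs => rw [← T.cube x, h])

/-- A fixed point free automorphism moves every non-trivial element out of its class. -/
theorem not_conj_aux (D : Data S) (τ : ↥(S : Subgroup G) ≃* ↥(S : Subgroup G))
    (hf : ∀ x, τ x = x → x = 1) {x t : ↥(S : Subgroup G)} (h : t * x * t⁻¹ = τ x) : x = 1 := by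
  by_cases hx : x ∈ center ↥(S : Subgroup G)
  · refine hf x ?_
    rw [← h, mem_center_iff.1 hx t, mul_inv_cancel_right]
  have hd : x⁻¹ * τ x ∈ center ↥(S : Subgroup G) := by
    rw [← h]
    have := D.cm_mem x⁻¹ t
    rwa [cm, inv_inv, show x⁻¹ * t * x * t⁻¹ = x⁻¹ * (t * x * t⁻¹) by group] at this
  let f : ↥(center ↥(S : Subgroup G)) → ↥(center ↥(S : Subgroup G)) := fun z =>
    ⟨(z : ↥(S : Subgroup G))⁻¹ * τ z, mul_mem (inv_mem z.2) (map_center τ z.2)⟩
  have hf' : Function.Injective f := by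
    intro z z' h
    have h' : (z : ↥(S : Subgroup G))⁻¹ * τ z = (z' : ↥(S : Subgroup G))⁻¹ * τ z' :=
      congrArg Subtype.val h
    refine Subtype.ext ?_
    have key : (z' : ↥(S : Subgroup G)) * (z : ↥(S : Subgroup G))⁻¹ = 1 := hf _ (by
      calc τ ((z' : ↥(S : Subgroup G)) * (z : ↥(S : Subgroup G))⁻¹)
          = z' * ((z' : ↥(S : Subgroup G))⁻¹ * τ z') * (τ z)⁻¹ := by rw [map_mul, map_inv]; group
        _ = _ := by rw [← h']; group)
    exact (mul_inv_eq_one.1 key).symm
  obtain ⟨⟨z, hz⟩, hzd⟩ := (Finite.injective_iff_surjective.1 hf') ⟨_, hd⟩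
  have hzd' : z⁻¹ * τ z = x⁻¹ * τ x := congrArg Subtype.val hzd
  have : x * z⁻¹ = 1 := hf _ (by
    calc τ (x * z⁻¹) = x * (x⁻¹ * τ x) * (τ z)⁻¹ := by rw [map_mul, map_inv]; group
      _ = _ := by rw [← hzd']; group)
  exact absurd (mul_inv_eq_one.1 this ▸ hz) hx

/-- The three classes in a fused class are different. -/
theorem not_conj (T : Twist σ) (D : Data S) {x t : ↥(S : Subgroup G)} (hx : x ≠ 1) {i j : Fin 3}
    (h : t * (σ^[i] x) * t⁻¹ = σ^[j] x) : i = j := by
  have h1 : ∀ {y s : ↥(S : Subgroup G)}, s * y * s⁻¹ = σ y → y = 1 :=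
    fun h => not_conj_aux D σ T.fpf h
  have h2 : ∀ {y s : ↥(S : Subgroup G)}, s * y * s⁻¹ = σ (σ y) → y = 1 :=
    fun h => not_conj_aux D (σ.trans σ) (fun _ h => T.fpf_sq h) h
  have hs1 : σ x ≠ 1 := fun h => hx (σ.injective (h.trans (map_one σ).symm))
  have hs2 : σ (σ x) ≠ 1 := fun h => hs1 (σ.injective (h.trans (map_one σ).symm))
  match i, j, h with
  | 0, 0, _ => rfl
  | 1, 1, _ => rfl
  | 2, 2, _ => rfl
  | 0, 1, h => exact absurd (h1 h) hx
  | 0, 2, h => exact absurd (h2 h) hx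
  | 1, 2, h => exact absurd (h1 (y := σ x) h) hs1
  | 1, 0, h => exact absurd (h2 (y := σ x) (s := t) (h.trans (T.cube x).symm)) hs1
  | 2, 0, h => exact absurd (h1 (y := σ (σ x)) (s := t) (h.trans (T.cube x).symm)) hs2
  | 2, 1, h =>
    exact absurd (h2 (y := σ (σ x)) (s := t) (h.trans (congrArg σ (T.cube x)).symm)) hs2

/-- The commutator map of a non-central element is onto the centre. -/
theorem nondegenerate (T : Twist σ) (D : Data S) {x : ↥(S : Subgroup G)}
    (hx : x ∉ center ↥(S : Subgroup G)) {z : ↥(S : Subgroup G)}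
    (hz : z ∈ center ↥(S : Subgroup G)) : ∃ t, cm x t ≠ 1 ∧ cm x t ≠ z := by
  by_contra hall
  push Not at hall
  have hall' : ∀ t, cm x t = 1 ∨ cm x t = z := fun t => or_iff_not_imp_left.2 (hall t)
  refine hx (mem_center_iff.2 fun t => (cm_eq_one_iff.1 ?_).symm)
  rcases eq_or_ne z 1 with rfl | hz1
  · exact (hall' t).elim id id
  have hmap : ∀ y t, cm (σ y) (σ t) = σ (cm y t) := fun y t => by simp [cm]
  have hne : ∀ {y : ↥(S : Subgroup G)}, y ≠ 1 → σ y ≠ 1 := fun hy h =>
    hy (σ.injective (h.trans (map_one σ).symm))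
  have hb : ∀ t, cm (σ x) t = 1 ∨ cm (σ x) t = σ z := by
    intro t
    obtain ⟨t, rfl⟩ := σ.surjective t
    rw [hmap]
    rcases hall' t with h | h <;> simp [h]
  have hc : ∀ t, cm (σ (σ x)) t = 1 ∨ cm (σ (σ x)) t = σ (σ z) := by
    intro t
    obtain ⟨t, rfl⟩ := σ.surjective t
    rw [hmap]
    rcases hb t with h | h <;> simp [h]
  have hw : x * σ x * σ (σ x) ∈ center ↥(S : Subgroup G) := by
    have hσw : x⁻¹ * (x * σ x * σ (σ x)) * x⁻¹⁻¹ = σ (x * σ x * σ (σ x)) := by
      rw [map_mul, map_mul, T.cube]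
      group
    rw [not_conj_aux D σ T.fpf hσw]
    exact one_mem _
  have heq : ∀ {a b : ↥(S : Subgroup G)}, b ∈ center ↥(S : Subgroup G) → a * b = 1 → a = b :=
    fun {a b} hb hab => by
      rw [eq_inv_of_mul_eq_one_left hab]
      exact inv_eq_of_mul_eq_one_right (D.center_sq b hb)
  have hσz := map_center σ hz
  have hkey : ∀ t, cm x t = 1 ↔ cm (σ x) t = 1 := by
    intro t
    have hprod : cm (σ (σ x)) t * (cm (σ x) t * cm x t) = 1 := by
      rw [← D.cm_mul, ← D.cm_mul]
      exact D.cm_center hw t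
    rcases hall' t with h | h <;> rcases hb t with h' | h'
    · simp [h, h']
    · exfalso
      rw [h, h', mul_one] at hprod
      rcases hc t with h'' | h'' <;> rw [h''] at hprod
      · exact hne hz1 (by simpa using hprod)
      · exact hz1 (T.fpf z (σ.injective (heq hσz hprod)))
    · exfalso
      rw [h, h', one_mul] at hprod
      rcases hc t with h'' | h'' <;> rw [h''] at hprod
      · exact hz1 (by simpa using hprod)
      · exact hz1 (T.fpf_sq (heq hz hprod))
    · simp [h, h', hne hz1, hz1]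
  have hinv : ∀ t, cm x t = 1 ↔ cm x (σ t) = 1 := fun t => by
    rw [hkey (σ t), hmap]
    exact ⟨fun h => by rw [h, map_one], fun h => σ.injective (h.trans (map_one σ).symm)⟩
  obtain ⟨y, rfl⟩ : ∃ y, y⁻¹ * σ y = t := by
    have hinj : Function.Injective fun y : ↥(S : Subgroup G) => y⁻¹ * σ y := by
      intro y y' h
      refine (mul_inv_eq_one.1 (T.fpf (y' * y⁻¹) ?_)).symm
      calc σ (y' * y⁻¹) = y' * (y'⁻¹ * σ y') * (σ y)⁻¹ := by rw [map_mul, map_inv]; group
        _ = _ := by rw [← show y⁻¹ * σ y = y'⁻¹ * σ y' from h]; group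
    exact (Finite.injective_iff_surjective.1 hinj) t
  have hmul : ∀ a b, cm x (a * b) = cm x a * cm x b := fun a b => by
    calc cm x (a * b) = x * a * x⁻¹ * (cm x b * a⁻¹) := by simp only [cm]; group
      _ = x * a * x⁻¹ * (a⁻¹ * cm x b) := by rw [mem_center_iff.1 (D.cm_mem x b) a⁻¹]
      _ = _ := by simp only [cm]; group
  have hinv' : cm x y⁻¹ = (cm x y)⁻¹ := by
    have h := hmul y⁻¹ y
    rw [inv_mul_cancel, show cm x 1 = 1 by simp [cm]] at h
    exact eq_inv_of_mul_eq_one_left h.symm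
  rw [hmul, hinv']
  rcases hall' y with h | h
  · rw [h, (hinv y).1 h, inv_one, one_mul]
  · rcases hall' (σ y) with h' | h'
    · exact absurd ((hinv y).2 h') (by rw [h]; exact hz1)
    · rw [h, h', inv_mul_cancel]

end Twist

end Cfsg.Agent.Lib.U34Type98
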