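import Cfsg.Agent.Lib.DihedralBlock.Order
import Cfsg.Agent.Lib.Characters.Complete
import Cfsg.Agent.Lib.Blocks.Basic

/-!
# Sums over 2-sections whose centralisers have normal 2-complements

The sum of a character over the odd elements of `C(s)`, translated by `s`, vanishes outside the
principal block.  This gives the orthogonality relations of the principal block on 2-elements.
-/

set_option autoImplicit false
set_option linter.style.haveILetI false

namespace Cfsg.Agent.Lib.U34Type98.Section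

open Subgroup Cfsg.Agent.Lib.Characters.Basic Cfsg.Agent.Lib.Characters.Complete
open scoped ComplexConjugate

universe u

attribute [local instance] Classical.propDecidable

variable {G : Type u} [Group G] [Finite G]

/-- `s` is a non-trivial 2-element and `K` the odd core of its centraliser, of 2-power index. -/
structure Sec (s : G) (K : Subgroup G) : Prop where
  pow : ∃ k : ℕ, orderOf s = 2 ^ k
  ne : s ≠ 1
  idx : ∃ k : ℕ, (Cfsg.pPrimeCore 2 ↥(centralizer ({s} : Set G))).index = 2 ^ k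
  eq : K = (Cfsg.pPrimeCore 2 ↥(centralizer ({s} : Set G))).map
    (centralizer ({s} : Set G)).subtype

variable {s t : G} {K L : Subgroup G}

theorem Sec.odd (h : Sec s K) {y : G} (hy : y ∈ K) : Odd (orderOf y) := by
  haveI : Fact (Nat.Prime 2) := ⟨Nat.prime_two⟩
  rw [h.eq] at hy
  obtain ⟨a, ha, rfl⟩ := hy
  rw [Subgroup.coe_subtype, Subgroup.orderOf_coe, Nat.odd_iff, ← Nat.two_dvd_ne_zero]
  exact fun h' => Cores.not_dvd_card_pPrimeCore 2 (h'.trans (Subgroup.orderOf_dvd_natCard _ ha))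

theorem Sec.comm (h : Sec s K) {y : G} (hy : y ∈ K) : s * y = y * s := by
  rw [h.eq] at hy
  obtain ⟨a, -, rfl⟩ := hy
  exact (mem_centralizer_singleton_iff.1 a.2).symm

theorem Sec.mem_of_odd (h : Sec s K) {y : G} (hy : y * s = s * y) (ho : Odd (orderOf y)) :
    y ∈ K := by
  rw [h.eq]
  exact ⟨⟨y, mem_centralizer_singleton_iff.2 hy⟩,
    DihedralBlock.Order.mem_core_of_odd h.idx (by rwa [← Subgroup.orderOf_coe]), rfl⟩

theorem Sec.isPPart (h : Sec s K) {y : G} (hy : y ∈ K) : Cfsg.IsPPart 2 (s * y) s :=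
  ⟨y, rfl, h.comm hy, h.pow, by rw [Nat.two_dvd_ne_zero, ← Nat.odd_iff]; exact h.odd hy⟩

/-- Conjugators between elements of the sections. -/
theorem Sec.conj_two_part (h : Sec s K) (h' : Sec t L) {y y' c : G} (hy : y ∈ K) (hy' : y' ∈ L)
    (hc : c * (s * y) * c⁻¹ = t * y') : c * s * c⁻¹ = t := by
  obtain ⟨u, hu, hcu, ⟨k, hk⟩, hodd⟩ := h.isPPart hy
  refine BrauerMap.PrincipalSection.isPPart_unique Nat.prime_two
    (g := t * y') ⟨c * u * c⁻¹, ?_, ?_, ⟨k, ?_⟩, ?_⟩ (h'.isPPart hy')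
  · rw [← hc, ← hu]; group
  · show c * s * c⁻¹ * (c * u * c⁻¹) = c * u * c⁻¹ * (c * s * c⁻¹)
    calc _ = c * (s * u) * c⁻¹ := by group
      _ = c * (u * s) * c⁻¹ := by rw [hcu.eq]
      _ = _ := by group
  · rw [← hk]; exact MulEquiv.orderOf_eq (MulAut.conj c) s
  · rw [show orderOf (c * u * c⁻¹) = orderOf u from MulEquiv.orderOf_eq (MulAut.conj c) u]
    exact hodd

theorem sum_card_conj [Fintype ↥L] (h : Sec s K) (h' : Sec t L) (y : ↥K) :
    ∑ y' : ↥L, (if IsConj (s * (y : G)) (t * (y' : G))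
      then (Nat.card (centralizer ({s * (y : G)} : Set G)) : ℂ) else 0) =
      if IsConj s t then (Nat.card (centralizer ({s} : Set G)) : ℂ) else 0 := by
  have h1 : ∀ y' : L, (if IsConj (s * (y : G)) (t * (y' : G))
      then (Nat.card (centralizer ({s * (y : G)} : Set G)) : ℂ) else 0) =
      (Nat.card {c : G // c * (s * (y : G)) * c⁻¹ = t * (y' : G)} : ℂ) := by
    intro y'
    split_ifs with hc
    · obtain ⟨c, hc⟩ := isConj_iff.1 hc
      refine Nat.cast_inj.2 (Nat.card_congr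
        { toFun := fun z => ⟨c * z.1, ?_⟩
          invFun := fun w => ⟨c⁻¹ * w.1, ?_⟩
          left_inv := fun z => Subtype.ext (inv_mul_cancel_left _ _)
          right_inv := fun w => Subtype.ext (mul_inv_cancel_left _ _) })
      · calc c * z.1 * (s * (y : G)) * (c * z.1)⁻¹
            = c * (z.1 * (s * (y : G))) * z.1⁻¹ * c⁻¹ := by group
          _ = c * ((s * (y : G)) * z.1) * z.1⁻¹ * c⁻¹ := by
              rw [mem_centralizer_singleton_iff.1 z.2]
          _ = t * (y' : G) := by rw [← hc]; group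
      · rw [mem_centralizer_singleton_iff]
        calc c⁻¹ * w.1 * (s * (y : G)) = c⁻¹ * (w.1 * (s * (y : G)) * w.1⁻¹) * w.1 := by group
          _ = c⁻¹ * (c * (s * (y : G)) * c⁻¹) * w.1 := by rw [w.2, hc]
          _ = _ := by group
    · rw [eq_comm, Nat.cast_eq_zero]
      haveI : IsEmpty {c : G // c * (s * (y : G)) * c⁻¹ = t * (y' : G)} :=
        ⟨fun c => hc (isConj_iff.2 ⟨c.1, c.2⟩)⟩
      exact Nat.card_of_isEmpty
  simp only [h1]
  rw [← Nat.cast_sum, ← Nat.card_sigma]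
  split_ifs with hc
  · obtain ⟨c, hc⟩ := isConj_iff.1 hc
    refine Nat.cast_inj.2 (Nat.card_congr
      { toFun := fun a => ⟨c⁻¹ * a.2.1, ?_⟩
        invFun := fun z => ⟨⟨c * z.1 * (y : G) * (c * z.1)⁻¹, ?_⟩, c * z.1, ?_⟩
        left_inv := ?_
        right_inv := fun z => Subtype.ext (inv_mul_cancel_left _ _) })
    · have h2 := h.conj_two_part h' y.2 a.1.2 a.2.2
      rw [mem_centralizer_singleton_iff]
      calc c⁻¹ * a.2.1 * s = c⁻¹ * (a.2.1 * s * a.2.1⁻¹) * a.2.1 := by group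
        _ = c⁻¹ * (c * s * c⁻¹) * a.2.1 := by rw [h2, hc]
        _ = _ := by group
    · have hz : c * z.1 * s * (c * z.1)⁻¹ = t := by
        calc c * z.1 * s * (c * z.1)⁻¹ = c * (z.1 * s) * z.1⁻¹ * c⁻¹ := by group
          _ = c * (s * z.1) * z.1⁻¹ * c⁻¹ := by rw [mem_centralizer_singleton_iff.1 z.2]
          _ = c * s * c⁻¹ := by group
          _ = t := hc
      refine h'.mem_of_odd ?_ ?_
      · rw [← hz]
        calc _ = c * z.1 * ((y : G) * s) * (c * z.1)⁻¹ := by group
          _ = c * z.1 * (s * (y : G)) * (c * z.1)⁻¹ := by rw [h.comm y.2]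
          _ = _ := by group
      · rw [show orderOf (c * z.1 * (y : G) * (c * z.1)⁻¹) = orderOf (y : G) from
          MulEquiv.orderOf_eq (MulAut.conj (c * z.1)) (y : G)]
        exact h.odd y.2
    · show c * z.1 * (s * (y : G)) * (c * z.1)⁻¹ = t * (c * z.1 * (y : G) * (c * z.1)⁻¹)
      rw [← hc]
      calc c * z.1 * (s * (y : G)) * (c * z.1)⁻¹
          = c * (z.1 * s) * z.1⁻¹ * c⁻¹ * (c * z.1 * (y : G) * (c * z.1)⁻¹) := by group
        _ = c * (s * z.1) * z.1⁻¹ * c⁻¹ * (c * z.1 * (y : G) * (c * z.1)⁻¹) := by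
            rw [mem_centralizer_singleton_iff.1 z.2]
        _ = _ := by group
    · intro a
      refine Sigma.subtype_ext (Subtype.ext ?_) (mul_inv_cancel_left c _)
      show c * (c⁻¹ * a.2.1) * (y : G) * (c * (c⁻¹ * a.2.1))⁻¹ = a.1.1
      have h2 := h.conj_two_part h' y.2 a.1.2 a.2.2
      have h3 := a.2.2
      rw [mul_inv_cancel_left]
      refine mul_left_cancel (a := t) ?_
      calc t * (a.2.1 * (y : G) * a.2.1⁻¹)
          = a.2.1 * s * a.2.1⁻¹ * (a.2.1 * (y : G) * a.2.1⁻¹) := by rw [h2]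
        _ = a.2.1 * (s * (y : G)) * a.2.1⁻¹ := by group
        _ = _ := h3
  · haveI : IsEmpty ((y' : ↥L) × {c : G // c * (s * (y : G)) * c⁻¹ = t * (y' : G)}) :=
      ⟨fun a => hc (isConj_iff.2 ⟨a.2.1, h.conj_two_part h' y.2 a.1.2 a.2.2⟩)⟩
    simp

theorem sum_mul_conj [Fintype (Cfsg.IrrCharacter G)] [Fintype ↥K] [Fintype ↥L] (h : Sec s K)
    (h' : Sec t L) :
    ∑ ξ : Cfsg.IrrCharacter G, (∑ y : ↥K, (ξ : G → ℂ) (s * y)) *
      conj (∑ y : ↥L, (ξ : G → ℂ) (t * y)) =
      (Nat.card K : ℂ) * if IsConj s t then (Nat.card (centralizer ({s} : Set G)) : ℂ) else 0 := by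
  simp only [map_sum, Finset.sum_mul, Finset.mul_sum]
  rw [Finset.sum_comm]
  conv_lhs => enter [2, y]; rw [Finset.sum_comm]
  simp only [sum_irr_mul_conj]
  rw [Finset.sum_comm]
  refine (Finset.sum_congr rfl fun y _ => (by convert sum_card_conj h h' y)).trans ?_
  rw [Finset.sum_const, nsmul_eq_mul, Finset.card_univ, ← Nat.card_eq_fintype_card]

variable (M : Ideal Cfsg.AlgInt) (hM : Cfsg.IsPModular 2 M)

/-- The principal block. -/
noncomputable def blk (G : Type u) [Group G] [Finite G] (M : Ideal Cfsg.AlgInt) :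
    Finset (Cfsg.IrrCharacter G) :=
  (Set.toFinite (Cfsg.principalBlock M G)).toFinset

theorem mem_blk {χ : Cfsg.IrrCharacter G} : χ ∈ blk G M ↔ χ ∈ Cfsg.principalBlock M G :=
  Set.Finite.mem_toFinset _

include hM in
theorem apply_eq (h : Sec s K) {y : G} (hy : y ∈ K) {χ : Cfsg.IrrCharacter G} (hχ : χ ∈ blk G M) :
    (χ : G → ℂ) (s * y) = (χ : G → ℂ) s :=
  DihedralBlock.Order.value_const M hM h.pow h.ne h.idx (h.comm hy) (h.odd hy)
    ((mem_blk M).1 hχ)

/-- The 2-part of the order of the centraliser. -/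
noncomputable def two (s : G) : ℕ :=
  2 ^ (Nat.card (centralizer ({s} : Set G))).factorization 2

theorem Sec.card_eq (h : Sec s K) : Nat.card (centralizer ({s} : Set G)) = Nat.card K * two s := by
  haveI : Fact (Nat.Prime 2) := ⟨Nat.prime_two⟩
  obtain ⟨k, hk⟩ := h.idx
  set C := centralizer ({s} : Set G)
  rw [two, h.eq, Subgroup.card_map_of_injective C.subtype_injective]
  have hK : ¬ 2 ∣ Nat.card (Cfsg.pPrimeCore 2 C) := Cores.not_dvd_card_pPrimeCore 2
  have : (Nat.card C).factorization 2 = k := by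
    rw [← (Cfsg.pPrimeCore 2 C).card_mul_index, hk,
      Nat.factorization_mul Nat.card_pos.ne' (pow_ne_zero _ two_ne_zero), Finsupp.add_apply,
      Nat.factorization_eq_zero_of_not_dvd hK, Nat.prime_two.factorization_pow,
      Finsupp.single_eq_same, zero_add]
  rw [this, ← hk, Subgroup.card_mul_index]

include hM in
theorem sum_blk_self (h : Sec s K) :
    ∑ χ ∈ blk G M, (χ : G → ℂ) s * conj ((χ : G → ℂ) s) = (two s : ℂ) := by
  haveI : Fact (Nat.Prime 2) := ⟨Nat.prime_two⟩
  have hz := (Cfsg.Agent.S0947.result 2 M hM s h.pow h.ne 1 (by simp)).2 h.idx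
  rw [OneMemClass.coe_one, mul_one, finsum_mem_eq_finite_toFinset_sum _ (Set.toFinite _)] at hz
  simp only [Complex.mul_conj, Complex.normSq_eq_norm_sq]
  rw [← Complex.ofReal_sum]
  rw [show (∑ χ ∈ blk G M, ‖(χ : G → ℂ) s‖ ^ 2) = ((two s : ℕ) : ℝ) from hz, Complex.ofReal_natCast]

include hM in
/-- The sum over a section vanishes outside the principal block. -/
theorem sum_section_eq_zero [Fintype ↥K] (h : Sec s K) {χ : Cfsg.IrrCharacter G}
    (hχ : χ ∉ blk G M) : ∑ y : ↥K, (χ : G → ℂ) (s * y) = 0 := by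
  letI := Fintype.ofFinite (Cfsg.IrrCharacter G)
  have htot := sum_mul_conj h h
  rw [if_pos (IsConj.refl s), h.card_eq] at htot
  have hB : ∑ ξ ∈ blk G M, (∑ y : ↥K, (ξ : G → ℂ) (s * y)) *
      conj (∑ y : ↥K, (ξ : G → ℂ) (s * y)) = (Nat.card K : ℂ) * (Nat.card K * two s : ℕ) := by
    rw [Nat.cast_mul, ← sum_blk_self M hM h, Finset.mul_sum, Finset.mul_sum]
    refine Finset.sum_congr rfl fun ξ hξ => ?_
    rw [Finset.sum_congr rfl fun (y : ↥K) _ => apply_eq M hM h y.2 hξ, Finset.sum_const,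
      nsmul_eq_mul, Finset.card_univ, ← Nat.card_eq_fintype_card, map_mul, map_natCast]
    ring
  have hrest : ∑ ξ ∈ Finset.univ \ blk G M, (∑ y : ↥K, (ξ : G → ℂ) (s * y)) *
      conj (∑ y : ↥K, (ξ : G → ℂ) (s * y)) = 0 := by
    rw [Finset.sum_sdiff_eq_sub (Finset.subset_univ _), htot, hB, sub_self]
  simp only [Complex.mul_conj] at hrest
  rw [← Complex.ofReal_sum, Complex.ofReal_eq_zero,
    Finset.sum_eq_zero_iff_of_nonneg (fun χ _ => Complex.normSq_nonneg _)] at hrest
  exact Complex.normSq_eq_zero.1 (hrest χ (Finset.mem_sdiff.2 ⟨Finset.mem_univ χ, hχ⟩))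

include hM in
/-- Orthogonality in the principal block. -/
theorem sum_blk_mul_conj (h : Sec s K) (h' : Sec t L) :
    ∑ χ ∈ blk G M, (χ : G → ℂ) s * conj ((χ : G → ℂ) t) =
      if IsConj s t then (two s : ℂ) else 0 := by
  letI := Fintype.ofFinite (Cfsg.IrrCharacter G)
  letI := Fintype.ofFinite ↥K
  letI := Fintype.ofFinite ↥L
  have htot := sum_mul_conj h h'
  rw [← Finset.sum_subset (Finset.subset_univ (blk G M)) fun χ _ hχ => by
    rw [sum_section_eq_zero M hM h hχ, zero_mul]] at htot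
  have hB : ∀ ξ ∈ blk G M, (∑ y : ↥K, (ξ : G → ℂ) (s * y)) *
      conj (∑ y : ↥L, (ξ : G → ℂ) (t * y)) =
      (Nat.card K : ℂ) * ((Nat.card L : ℂ) * ((ξ : G → ℂ) s * conj ((ξ : G → ℂ) t))) := by
    intro ξ hξ
    rw [Finset.sum_congr rfl fun (y : ↥K) _ => apply_eq M hM h y.2 hξ, Finset.sum_const,
      nsmul_eq_mul, Finset.card_univ, ← Nat.card_eq_fintype_card,
      Finset.sum_congr rfl fun (y : ↥L) _ => apply_eq M hM h' y.2 hξ, Finset.sum_const,
      nsmul_eq_mul, Finset.card_univ, ← Nat.card_eq_fintype_card, map_mul, map_natCast]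
    ring
  rw [Finset.sum_congr rfl hB, ← Finset.mul_sum, ← Finset.mul_sum] at htot
  have h1 := mul_left_cancel₀ (Nat.cast_ne_zero.2 Nat.card_pos.ne') htot
  refine mul_left_cancel₀ (Nat.cast_ne_zero.2 (Nat.card_pos (α := L)).ne') (h1.trans ?_)
  split_ifs with hc
  · obtain ⟨c, hc'⟩ := isConj_iff.1 hc
    have hcard : Nat.card (centralizer ({s} : Set G)) = Nat.card (centralizer ({t} : Set G)) := by
      refine Nat.card_congr
        { toFun := fun z => ⟨c * z.1 * c⁻¹, mem_centralizer_singleton_iff.2 ?_⟩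
          invFun := fun z => ⟨c⁻¹ * z.1 * c, mem_centralizer_singleton_iff.2 ?_⟩
          left_inv := fun z => Subtype.ext (by simp [mul_assoc])
          right_inv := fun z => Subtype.ext (by simp [mul_assoc]) }
      · rw [← hc']
        calc c * z.1 * c⁻¹ * (c * s * c⁻¹) = c * (z.1 * s) * c⁻¹ := by group
          _ = c * (s * z.1) * c⁻¹ := by rw [mem_centralizer_singleton_iff.1 z.2]
          _ = _ := by group
      · calc c⁻¹ * z.1 * c * s = c⁻¹ * (z.1 * (c * s * c⁻¹)) * c := by group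
          _ = c⁻¹ * ((c * s * c⁻¹) * z.1) * c := by
              rw [hc', mem_centralizer_singleton_iff.1 z.2]
          _ = _ := by group
    rw [show two s = two t by rw [two, two, hcard], hcard, h'.card_eq]
    push_cast
    ring
  · ring

include hM in
/-- The degrees are orthogonal to the values on a non-trivial 2-element in the block. -/
theorem sum_blk_degree (h : Sec s K) :
    ∑ χ ∈ blk G M, (χ : G → ℂ) 1 * (χ : G → ℂ) s = 0 := by
  classical
  letI := Fintype.ofFinite (Cfsg.IrrCharacter G)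
  letI := Fintype.ofFinite ↥K
  have htot : ∑ χ : Cfsg.IrrCharacter G, (χ : G → ℂ) 1 * ∑ y : ↥K, (χ : G → ℂ) (s * y) = 0 := by
    simp only [Finset.mul_sum]
    rw [Finset.sum_comm]
    refine Finset.sum_eq_zero fun y _ => ?_
    rw [sum_degree_mul_apply, if_neg fun e => h.ne ?_]
    exact BrauerMap.PrincipalSection.isPPart_unique Nat.prime_two (h.isPPart y.2)
      (e.symm ▸ Blocks.isPPart_one_of_regular (g := (1 : G)) (by simp))
  rw [← Finset.sum_subset (Finset.subset_univ (blk G M)) fun χ _ hχ => by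
    rw [sum_section_eq_zero M hM h hχ, mul_zero]] at htot
  rw [Finset.sum_congr rfl fun χ hχ => by
    rw [Finset.sum_congr rfl fun (y : ↥K) _ => apply_eq M hM h y.2 hχ, Finset.sum_const,
      nsmul_eq_mul, Finset.card_univ, ← Nat.card_eq_fintype_card, mul_left_comm],
    ← Finset.mul_sum] at htot
  exact (mul_eq_zero.1 htot).resolve_left (Nat.cast_ne_zero.2 Nat.card_pos.ne')

include hM in
/-- If no element of the section is a product of two conjugates of `v`, the class algebra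
coefficient vanishes. -/
theorem sum_blk_count (h : Sec s K) {v : G}
    (hno : ∀ y ∈ K, ∀ a b : G, s * y * (a * v * a⁻¹) * (b * v * b⁻¹) ≠ 1) :
    ∑ χ ∈ blk G M, (χ : G → ℂ) s * (χ : G → ℂ) v ^ 2 / (χ : G → ℂ) 1 = 0 := by
  classical
  letI := Fintype.ofFinite G
  letI := Fintype.ofFinite (Cfsg.IrrCharacter G)
  letI := Fintype.ofFinite ↥K
  have hG : (Nat.card G : ℂ) ≠ 0 := Nat.cast_ne_zero.2 Nat.card_pos.ne'
  have hone : ∀ (χ : Cfsg.IrrCharacter G) (x : G),
      ∑ a : G, ∑ b : G, (χ : G → ℂ) (x * (a * v * a⁻¹) * (b * v * b⁻¹)) =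
      (Nat.card G : ℂ) ^ 2 * (χ : G → ℂ) x * (χ : G → ℂ) v ^ 2 / (χ : G → ℂ) 1 ^ 2 := by
    intro χ x
    have h1 := apply_one_ne_zero χ
    simp only [H80.ClassMult.sum_apply_mul_conj, ← Finset.sum_div, ← Finset.sum_mul,
      ← Finset.mul_sum]
    field_simp
  have htot : ∑ χ : Cfsg.IrrCharacter G, ((χ : G → ℂ) v ^ 2 / (χ : G → ℂ) 1) *
      ∑ y : ↥K, (χ : G → ℂ) (s * y) = 0 := by
    have h0 : ∑ χ : Cfsg.IrrCharacter G, (χ : G → ℂ) 1 * ∑ y : ↥K, ∑ a : G, ∑ b : G,
        (χ : G → ℂ) (s * y * (a * v * a⁻¹) * (b * v * b⁻¹)) = 0 := by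
      simp only [Finset.mul_sum]
      rw [Finset.sum_comm]
      refine Finset.sum_eq_zero fun y _ => ?_
      rw [Finset.sum_comm]
      refine Finset.sum_eq_zero fun a _ => ?_
      rw [Finset.sum_comm]
      refine Finset.sum_eq_zero fun b _ => ?_
      rw [sum_degree_mul_apply, if_neg (hno y y.2 a b)]
    refine (mul_eq_zero.1 ?_).resolve_left (pow_ne_zero 2 hG)
    rw [← h0, Finset.mul_sum]
    refine Finset.sum_congr rfl fun χ _ => ?_
    have h1 := apply_one_ne_zero χ
    simp only [hone, Finset.mul_sum]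
    refine Finset.sum_congr rfl fun y _ => ?_
    field_simp
  rw [← Finset.sum_subset (Finset.subset_univ (blk G M)) fun χ _ hχ => by
    rw [sum_section_eq_zero M hM h hχ, mul_zero]] at htot
  rw [Finset.sum_congr rfl fun χ hχ => by
    rw [Finset.sum_congr rfl fun (y : ↥K) _ => apply_eq M hM h y.2 hχ, Finset.sum_const,
      nsmul_eq_mul, Finset.card_univ, ← Nat.card_eq_fintype_card, mul_left_comm],
    ← Finset.mul_sum] at htot
  refine Eq.trans ?_ ((mul_eq_zero.1 htot).resolve_left (Nat.cast_ne_zero.2 Nat.card_pos.ne'))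
  exact Finset.sum_congr rfl fun χ _ => by ring

end Cfsg.Agent.Lib.U34Type98.Section
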