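import Cfsg.Agent.Lib.U34Type98.Linear
import Cfsg.Agent.Lib.Characters.Kernel
import Cfsg.Agent.Lib.BrauerMap.CentralDefect

/-!
# An irreducible character of degree 4 and the centre of `S`
-/

set_option autoImplicit false
set_option linter.style.haveILetI false
set_option linter.unusedSectionVars false

namespace Cfsg.Agent.Lib.U34Type98.Theta

open Subgroup Cfsg.Agent.Lib.Characters.Basic
open scoped ComplexConjugate

universe u

attribute [local instance] Classical.propDecidable

variable {G : Type u} [Group G] [Finite G] {S : Sylow 2 G}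
  {σ : ↥(S : Subgroup G) ≃* ↥(S : Subgroup G)}

variable (D : Data S)
include D

/-- The elements outside the centre are conjugate to their whole coset. -/
theorem exists_conj_coset (T : Twist σ) {x : ↥(S : Subgroup G)}
    (hx : x ∉ center ↥(S : Subgroup G)) {z : ↥(S : Subgroup G)}
    (hz : z ∈ center ↥(S : Subgroup G)) : ∃ t, t * x * t⁻¹ = x * z := by
  -- the commutator map of `x` is a homomorphism with at least three values
  let f : ↥(S : Subgroup G) →* ↥(center ↥(S : Subgroup G)) :=
    MonoidHom.mk' (fun t => ⟨cm x t, D.cm_mem x t⟩) fun a b => Subtype.ext (by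
      show cm x (a * b) = cm x a * cm x b
      calc cm x (a * b) = x * a * x⁻¹ * (cm x b * a⁻¹) := by simp only [cm]; group
        _ = x * a * x⁻¹ * (a⁻¹ * cm x b) := by rw [mem_center_iff.1 (D.cm_mem x b) a⁻¹]
        _ = _ := by simp only [cm]; group)
  have htop : f.range = ⊤ := by
    haveI := Fintype.ofFinite ↥(center ↥(S : Subgroup G))
    refine Subgroup.eq_top_of_le_card _ ?_
    obtain ⟨t1, h1, -⟩ := T.nondegenerate D hx (one_mem _)
    obtain ⟨t2, h2, h2'⟩ := T.nondegenerate D hx (D.cm_mem x t1)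
    have h3 : 3 ≤ Nat.card ↥f.range := by
      rw [Nat.card_eq_fintype_card, Fintype.card_subtype]
      refine le_trans (le_of_eq ?_) (Finset.card_le_card (s := {1, f t1, f t2}) ?_)
      · rw [Finset.card_insert_of_notMem (by
            simp only [Finset.mem_insert, Finset.mem_singleton, not_or]
            exact ⟨fun h => h1 (congrArg Subtype.val h).symm, fun h => h2 (congrArg Subtype.val h).symm⟩),
          Finset.card_pair fun h => h2' (congrArg Subtype.val h).symm]
      · intro y hy
        simp only [Finset.mem_insert, Finset.mem_singleton] at hy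
        rw [Finset.mem_filter]
        refine ⟨Finset.mem_univ _, ?_⟩
        rcases hy with rfl | rfl | rfl
        exacts [one_mem _, ⟨t1, rfl⟩, ⟨t2, rfl⟩]
    have hdvd := Subgroup.card_subgroup_dvd_card f.range
    rw [D.card_center] at hdvd ⊢
    have hle := Nat.le_of_dvd (by norm_num) hdvd
    interval_cases h : Nat.card ↥f.range <;> omega
  obtain ⟨t, ht⟩ : (⟨z, hz⟩ : ↥(center ↥(S : Subgroup G))) ∈ f.range := htop ▸ mem_top _
  refine ⟨t, ?_⟩
  have hzt : cm x t = z := congrArg Subtype.val ht
  have hzi : z⁻¹ = z := inv_eq_of_mul_eq_one_right (D.center_sq z hz)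
  calc t * x * t⁻¹ = (cm x t)⁻¹ * x := by simp only [cm]; group
    _ = x * z := by rw [hzt, hzi, mem_center_iff.1 hz x]

/-- The centre. -/
theorem center_eq (T : Twist σ) {a : ↥(S : Subgroup G)} (ha : a ∈ center ↥(S : Subgroup G))
    (ha1 : a ≠ 1) [Fintype ↥(S : Subgroup G)] :
    (Finset.univ.filter fun x : ↥(S : Subgroup G) => x ∈ center ↥(S : Subgroup G)) =
      {1, a, σ a, σ (σ a)} ∧
      ({1, a, σ a, σ (σ a)} : Finset ↥(S : Subgroup G)).card = 4 ∧
      a ≠ σ a ∧ a ≠ σ (σ a) ∧ σ a ≠ σ (σ a) ∧ σ a ≠ 1 ∧ σ (σ a) ≠ 1 := by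
  have h01 : a ≠ σ a := fun h => ha1 (T.fpf a h.symm)
  have h02 : a ≠ σ (σ a) := fun h => ha1 (T.fpf_sq h.symm)
  have h12 : σ a ≠ σ (σ a) := fun h => h01 (σ.injective h)
  have hb : σ a ≠ 1 := fun h => ha1 (σ.injective (h.trans (map_one σ).symm))
  have hc : σ (σ a) ≠ 1 := fun h => hb (σ.injective (h.trans (map_one σ).symm))
  have hcard : ({1, a, σ a, σ (σ a)} : Finset ↥(S : Subgroup G)).card = 4 := by
    rw [Finset.card_insert_of_notMem (by simp [ha1.symm, hb.symm, hc.symm]),
      Finset.card_insert_of_notMem (by simp [h01, h02]), Finset.card_pair h12]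
  refine ⟨(Finset.eq_of_subset_of_card_le (fun x hx => ?_) ?_).symm, hcard, h01, h02, h12, hb, hc⟩
  · simp only [Finset.mem_insert, Finset.mem_singleton] at hx
    rw [Finset.mem_filter]
    refine ⟨Finset.mem_univ _, ?_⟩
    rcases hx with rfl | rfl | rfl | rfl
    exacts [one_mem _, ha, Twist.map_center σ ha, Twist.map_center σ (Twist.map_center σ ha)]
  · rw [hcard, ← Fintype.card_subtype, ← Nat.card_eq_fintype_card]
    exact D.card_center.le

/-- The table of the character of degree 4. -/
theorem exists_theta (T : Twist σ) [Fintype ↥(S : Subgroup G)] :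
    ∃ θ : ↥(S : Subgroup G) → ℤ,
      Cfsg.IsCharacter ↥(S : Subgroup G) (fun x => (θ x : ℂ)) ∧ θ 1 = 4 ∧
      (∀ x, x ∉ center ↥(S : Subgroup G) → θ x = 0) ∧
      (∀ z ∈ center ↥(S : Subgroup G), θ z * θ z = 16) ∧
      ∑ x, θ x = 0 := by
  haveI : Nontrivial ↥(center ↥(S : Subgroup G)) :=
    Finite.one_lt_card_iff_nontrivial.1 (by rw [D.card_center]; norm_num)
  obtain ⟨⟨v, hv⟩, hv1⟩ := exists_ne (1 : ↥(center ↥(S : Subgroup G)))
  obtain ⟨θ, hθ⟩ := Characters.Kernel.exists_apply_ne_degree
    (g := v) (fun h => hv1 (Subtype.ext h))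
  set f : ↥(S : Subgroup G) → ℂ := (θ : ↥(S : Subgroup G) → ℂ) with hf
  have hcen : ∀ z ∈ center ↥(S : Subgroup G), ∀ g, Commute z g := fun z hz g =>
    (mem_center_iff.1 hz g).symm
  have hmul : ∀ z ∈ center ↥(S : Subgroup G), ∀ a b,
      f (a * z) * f (z⁻¹ * b) = f a * f b := fun z hz =>
    BrauerMap.CentralDefect.mul_apply_central (hcen z hz) θ
  have hoff : ∀ x, x ∉ center ↥(S : Subgroup G) → f x = 0 := by
    intro x hx
    obtain ⟨t, ht⟩ := exists_conj_coset D T hx hv
    have h := hmul v hv x 1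
    rw [← ht, show f (t * x * t⁻¹) = f x from isClassFunction_irr θ x t, mul_one,
      inv_eq_of_mul_eq_one_right (D.center_sq v hv)] at h
    rcases mul_eq_mul_left_iff.1 h with h | h
    · exact absurd h hθ
    · exact h
  have hsq : ∀ z ∈ center ↥(S : Subgroup G), f z * f z = f 1 * f 1 := by
    intro z hz
    have h := hmul z hz 1 1
    rwa [one_mul, mul_one, inv_eq_of_mul_eq_one_right (D.center_sq z hz)] at h
  obtain ⟨n, hn, hn1⟩ := exists_degree_pos θ
  replace hn1 : f 1 = (n : ℂ) := hn1
  have hn4 : n = 4 := by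
    have h := classInner_self_irr θ
    rw [Cfsg.classInner, D.card] at h
    have hterm : ∀ x, f x * conj (f x) =
        if x ∈ center ↥(S : Subgroup G) then ((n * n : ℕ) : ℂ) else 0 := by
      intro x
      split_ifs with hx
      · rw [← apply_inv (isCharacter_irr θ), inv_eq_of_mul_eq_one_right (D.center_sq x hx),
          hsq x hx, hn1]
        push_cast
        rfl
      · rw [hoff x hx, zero_mul]
    rw [Finset.sum_congr rfl fun x _ => hterm x, ← Finset.sum_filter, Finset.sum_const,
      nsmul_eq_mul, ← Fintype.card_subtype, ← Nat.card_eq_fintype_card] at h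
    rw [show Nat.card {x // x ∈ center ↥(S : Subgroup G)} = 4 from D.card_center] at h
    have h2 : ((n * n : ℕ) : ℂ) = ((16 : ℕ) : ℂ) := by
      push_cast at h ⊢
      linear_combination 16 * h
    have h3 : n * n = 16 := Nat.cast_inj.1 h2
    nlinarith
  have hf1 : f 1 = 4 := by rw [hn1, hn4]; norm_num
  let g : ↥(S : Subgroup G) → ℤ := fun x =>
    if x ∈ center ↥(S : Subgroup G) then (if f x = 4 then 4 else -4) else 0
  have hg : ∀ x, (g x : ℂ) = f x := by
    intro x
    simp only [g]
    by_cases hx : x ∈ center ↥(S : Subgroup G)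
    · rw [if_pos hx]
      split_ifs with h
      · rw [h]; norm_num
      · have h2 := hsq x hx
        rw [hf1] at h2
        rcases mul_self_eq_mul_self_iff.1 h2 with h' | h'
        · exact absurd h' h
        · rw [h']; norm_num
    · rw [if_neg hx, hoff x hx]; norm_num
  refine ⟨g, ?_, ?_, fun x hx => if_neg hx, fun z hz => ?_, ?_⟩
  · rw [show (fun x => (g x : ℂ)) = f from funext hg]
    exact isCharacter_irr θ
  · simp only [g, if_pos (one_mem (center ↥(S : Subgroup G))), if_pos hf1]
  · simp only [g, if_pos hz]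
    split_ifs <;> norm_num
  · rw [← Int.cast_inj (α := ℂ), Int.cast_sum, Int.cast_zero]
    simp only [hg]
    have h := classInner_irr_of_ne (χ := θ) (ψ := oneChar _) fun e => by
      have h1 := congrArg (fun χ : Cfsg.IrrCharacter ↥(S : Subgroup G) =>
        (χ : ↥(S : Subgroup G) → ℂ) 1) e
      simp only [oneChar_apply] at h1
      rw [← hf, hf1] at h1
      norm_num at h1
    rw [Cfsg.classInner] at h
    simp only [oneChar_apply, map_one, mul_one] at h
    exact (mul_eq_zero.1 h).resolve_left (inv_ne_zero (Nat.cast_ne_zero.2 Nat.card_pos.ne'))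

end Cfsg.Agent.Lib.U34Type98.Theta
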