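import Cfsg.Agent.Lib.U34Type98.Section
import Cfsg.Agent.Lib.U34Type98.Theta

/-!
# The 2-sections of a group with a Sylow 2-subgroup of type `U₃(4)`
-/

set_option autoImplicit false
set_option linter.style.haveILetI false
set_option linter.unusedSectionVars false

namespace Cfsg.Agent.Lib.U34Type98.Sections

open Subgroup Cfsg.Agent.Lib.CNilp98

universe u

attribute [local instance] Classical.propDecidable

variable {G : Type u} [Group G] [Finite G] {S : Sylow 2 G}
  {σ : ↥(S : Subgroup G) ≃* ↥(S : Subgroup G)}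

variable (D : Data S)
include D

/-- The section of an element of `S` and the 2-part of the order of its centraliser. -/
theorem exists_sec {x : ↥(S : Subgroup G)} (hx : x ≠ 1) :
    (∃ K, Section.Sec (x : G) K) ∧
      Section.two (x : G) = Nat.card {t : ↥(S : Subgroup G) // t * x = x * t} := by
  classical
  haveI : Fact (Nat.Prime 2) := ⟨Nat.prime_two⟩
  obtain ⟨v, hv, -, hvx, hvo⟩ := D.inv2_spec hx
  have hvc : ∀ s ∈ (S : Subgroup G), s * (v : G) = v * s := fun s hs =>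
    congrArg Subtype.val (mem_center_iff.1 hv ⟨s, hs⟩)
  obtain ⟨K, hKC, hKodd, hKn, hdec⟩ := exists_core D.nilp hvo hvc
  set C := centralizer ({(x : G)} : Set G)
  have hCv : ∀ c ∈ C, c ∈ centralizer ({(v : G)} : Set G) := fun c hc =>
    mem_centralizer_singleton_iff.2
      (by rw [hvx]; exact commute_inv2 (mem_centralizer_singleton_iff.1 hc))
  have hsplit : ∀ c ∈ C, ∃ t : ↥(S : Subgroup G), t * x = x * t ∧
      ∃ k ∈ K, k ∈ C ∧ c = t * k := by
    intro c hc
    obtain ⟨t, ht, k, hk, rfl⟩ := hdec c (hCv c hc)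
    have hconj : t * k * (x : G) * (t * k)⁻¹ = x :=
      mul_inv_eq_iff_eq_mul.2 (mem_centralizer_singleton_iff.1 hc)
    have h1 : k * (x : G) * k⁻¹ ∈ (S : Subgroup G) := by
      have := mul_mem (mul_mem (inv_mem ht) x.2) ht
      rw [← hconj] at this
      simpa [mul_assoc] using this
    have hxC : (x : G) ∈ centralizer ({(v : G)} : Set G) :=
      mem_centralizer_singleton_iff.2 (hvc _ x.2)
    have h2 : k * (x : G) * k⁻¹ * (x : G)⁻¹ ∈ K := by
      have := mul_mem hk (hKn _ hxC k⁻¹ (inv_mem hk))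
      simpa [mul_assoc] using this
    have h3 : k * (x : G) * k⁻¹ = x :=
      mul_inv_eq_one.1 (inf_core_eq_one hKodd h2 (mul_mem h1 (inv_mem x.2)))
    have h4 : t * (x : G) * t⁻¹ = x := by
      conv_rhs => rw [← hconj]
      rw [show t * k * (x : G) * (t * k)⁻¹ = t * (k * (x : G) * k⁻¹) * t⁻¹ by group, h3]
    exact ⟨⟨t, ht⟩, Subtype.ext (mul_inv_eq_iff_eq_mul.1 h4), k, hk,
      mem_centralizer_singleton_iff.2 (mul_inv_eq_iff_eq_mul.1 h3), rfl⟩
  let N : Subgroup ↥C := K.subgroupOf C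
  haveI hN : N.Normal := ⟨fun k hk c => hKn c (hCv c c.2) k hk⟩
  have hNodd : Odd (Nat.card ↥N) := by
    refine Odd.of_dvd_nat hKodd ?_
    rw [← card_map_of_injective (f := C.subtype) C.subtype_injective]
    refine card_dvd_of_le ?_
    rintro _ ⟨k, hk, rfl⟩
    exact hk
  set T := {t : ↥(S : Subgroup G) // t * x = x * t}
  have hbij : Nat.card ↥C = Nat.card T * Nat.card ↥N := by
    rw [← Nat.card_prod]
    refine (Nat.card_congr (Equiv.ofBijective (fun p : T × ↥N =>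
      (⟨(p.1.1 : G) * ((p.2 : ↥C) : G), mul_mem (mem_centralizer_singleton_iff.2
        (congrArg Subtype.val p.1.2)) (p.2 : ↥C).2⟩ : ↥C)) ⟨?_, ?_⟩)).symm
    · intro p q h
      have e : (p.1.1 : G) * ((p.2 : ↥C) : G) = (q.1.1 : G) * ((q.2 : ↥C) : G) :=
        congrArg Subtype.val h
      have hk : (q.1.1 : G)⁻¹ * (p.1.1 : G) = ((q.2 : ↥C) : G) * ((p.2 : ↥C) : G)⁻¹ := by
        calc (q.1.1 : G)⁻¹ * (p.1.1 : G)
            = (q.1.1 : G)⁻¹ * ((p.1.1 : G) * ((p.2 : ↥C) : G)) * ((p.2 : ↥C) : G)⁻¹ := by group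
          _ = _ := by rw [e]; group
      have h1 := inf_core_eq_one (S := S) hKodd
        (x := (q.1.1 : G)⁻¹ * (p.1.1 : G))
        (by rw [hk]; exact mul_mem q.2.2 (inv_mem p.2.2)) (mul_mem (inv_mem q.1.1.2) p.1.1.2)
      have h2 : (p.1.1 : G) = (q.1.1 : G) := (inv_mul_eq_one.1 h1).symm
      refine Prod.ext (Subtype.ext (Subtype.ext h2)) (Subtype.ext (Subtype.ext ?_))
      exact mul_left_cancel (e.trans (by rw [h2]))
    · rintro ⟨c, hc⟩
      obtain ⟨t, ht, k, hk, hkC, rfl⟩ := hsplit c hc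
      exact ⟨(⟨t, ht⟩, ⟨⟨k, hkC⟩, hk⟩), rfl⟩
  haveI : Nonempty T := ⟨⟨1, by simp⟩⟩
  obtain ⟨e, he⟩ : ∃ e, Nat.card T = 2 ^ e := by
    obtain ⟨j, hj⟩ := S.2.exists_card_eq
    let U : Subgroup ↥(S : Subgroup G) := centralizer ({x} : Set ↥(S : Subgroup G))
    have hTU : Nat.card T = Nat.card ↥U := Nat.card_congr
      (Equiv.subtypeEquivRight fun t => mem_centralizer_singleton_iff.symm)
    obtain ⟨e, -, he⟩ := (Nat.dvd_prime_pow Nat.prime_two).1 (hj ▸ card_subgroup_dvd_card U)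
    exact ⟨e, hTU.trans he⟩
  have hidx : N.index = 2 ^ e := by
    have h := N.card_mul_index
    rw [hbij, he, mul_comm (2 ^ e)] at h
    exact Nat.eq_of_mul_eq_mul_left Nat.card_pos h
  refine ⟨⟨_, ⟨?_, fun h => hx (Subtype.ext h), ?_, rfl⟩⟩, ?_⟩
  · obtain ⟨j, hj⟩ := S.2.exists_card_eq
    obtain ⟨i, -, hi⟩ :=
      (Nat.dvd_prime_pow Nat.prime_two).1 (hj ▸ orderOf_dvd_natCard (S : Subgroup G) x.2)
    exact ⟨i, hi⟩
  · have hle : N ≤ Cfsg.pPrimeCore 2 ↥C :=
      Cores.le_pPrimeCore (Nat.coprime_two_right.2 hNodd)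
    obtain ⟨k, -, hk⟩ :=
      (Nat.dvd_prime_pow Nat.prime_two).1 (hidx ▸ Subgroup.index_dvd_of_le hle)
    exact ⟨k, hk⟩
  · rw [Section.two, hbij, Nat.factorization_mul Nat.card_pos.ne' Nat.card_pos.ne',
      Finsupp.add_apply, he, Nat.prime_two.factorization_pow, Finsupp.single_eq_same,
      Nat.factorization_eq_zero_of_not_dvd fun h => by
        obtain ⟨r, hr⟩ := hNodd
        omega, add_zero]

/-- No element of a section of a non-central element is a product of two involutions. -/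
theorem not_two_involutions {x : ↥(S : Subgroup G)} (hx : x ∉ center ↥(S : Subgroup G))
    {K : Subgroup G} (hK : Section.Sec (x : G) K) {y : G} (hy : y ∈ K) {i j : G}
    (hi : i * i = 1) (hj : j * j = 1) : (x : G) * y * i * j ≠ 1 := by
  intro hw
  have hx1 : x ≠ 1 := fun h => hx (h ▸ one_mem _)
  have hii : i⁻¹ = i := inv_eq_of_mul_eq_one_right hi
  have hjj : j⁻¹ = j := inv_eq_of_mul_eq_one_right hj
  set w := (x : G) * y
  have hwe : w = j * i := by
    rw [← hjj, ← hii, ← mul_inv_rev]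
    exact eq_inv_of_mul_eq_one_left (by rwa [← mul_assoc])
  have hinv : MulAut.conj i w = w⁻¹ := by
    rw [hwe, mul_inv_rev, hii, hjj, MulAut.conj_apply, hii, ← mul_assoc, mul_assoc (i * j), hi,
      mul_one]
  obtain ⟨e, he⟩ := mem_zpowers_iff.1
    (BrauerMap.PrincipalSection.isPPart_mem_zpowers Nat.prime_two (hK.isPPart hy))
  have hix : i * (x : G) * i⁻¹ = (x : G)⁻¹ := by
    rw [← MulAut.conj_apply, ← he, map_zpow, hinv, inv_zpow]
  obtain ⟨v, hv, -, hvx, hvo⟩ := D.inv2_spec hx1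
  have hvc : ∀ s ∈ (S : Subgroup G), s * (v : G) = v * s := fun s hs =>
    congrArg Subtype.val (mem_center_iff.1 hv ⟨s, hs⟩)
  obtain ⟨K', hK'C, hK'odd, hK'n, hdec⟩ := exists_core D.nilp hvo hvc
  have hxx : x * x ≠ 1 := fun h => hx (D.invol x h)
  have hiC : i ∈ centralizer ({(v : G)} : Set G) := by
    refine mem_centralizer_singleton_iff.2 ?_
    have h2 : i * ((x : G) * x) * i⁻¹ = ((x : G) * x)⁻¹ := by
      calc i * ((x : G) * x) * i⁻¹ = (i * x * i⁻¹) * (i * x * i⁻¹) := by group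
        _ = _ := by rw [hix]; group
    have hveq : (v : G) = (x : G) * x := by
      rw [hvx, inv2, if_neg]
      exact fun h => hxx (Subtype.ext (by simpa using h))
    rw [← hveq, inv_eq_of_mul_eq_one_right (a := (v : G))
      (congrArg Subtype.val (D.center_sq v hv))] at h2
    exact mul_inv_eq_iff_eq_mul.1 h2
  obtain ⟨t, ht, k, hk, rfl⟩ := hdec i hiC
  have hxC : (x : G) ∈ centralizer ({(v : G)} : Set G) :=
    mem_centralizer_singleton_iff.2 (hvc _ x.2)
  have htC : t ∈ centralizer ({(v : G)} : Set G) := mem_centralizer_singleton_iff.2 (hvc _ ht)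
  have ht2 : t * t = 1 := by
    have h1 : t * t = (t * t) * (t * k * (t * k))⁻¹ := by rw [hi, inv_one, mul_one]
    refine inf_core_eq_one (S := S) hK'odd ?_ (mul_mem ht ht)
    rw [h1, show t * t * (t * k * (t * k))⁻¹ = t * (t * k⁻¹ * t⁻¹ * k⁻¹) * t⁻¹ by group]
    refine hK'n t htC _ (mul_mem ?_ (inv_mem hk))
    exact hK'n t htC _ (inv_mem hk)
  have h1 : k * (x : G) * k⁻¹ ∈ (S : Subgroup G) := by
    have h := mul_mem (mul_mem (inv_mem ht) (inv_mem x.2)) ht
    rw [← hix] at h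
    simpa [mul_assoc] using h
  have h2 : k * (x : G) * k⁻¹ * (x : G)⁻¹ ∈ K' := by
    have := mul_mem hk (hK'n _ hxC k⁻¹ (inv_mem hk))
    simpa [mul_assoc] using this
  have h3 : k * (x : G) * k⁻¹ = x :=
    mul_inv_eq_one.1 (inf_core_eq_one hK'odd h2 (mul_mem h1 (inv_mem x.2)))
  have htx : t * (x : G) * t⁻¹ = (x : G)⁻¹ := by
    rw [← hix, show t * k * (x : G) * (t * k)⁻¹ = t * (k * (x : G) * k⁻¹) * t⁻¹ by group, h3]
  have htZ := D.invol ⟨t, ht⟩ (Subtype.ext ht2)
  have hc := congrArg Subtype.val (mem_center_iff.1 htZ x)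
  simp only [coe_mul] at hc
  rw [← hc, mul_inv_cancel_right, eq_inv_iff_mul_eq_one] at htx
  exact hxx (Subtype.ext htx)

end Cfsg.Agent.Lib.U34Type98.Sections
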